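import Mathlib.RingTheory.Spectrum.Prime.Topology
import Mathlib.RingTheory.Localization.Away.Basic

/-!
# Idempotents as fractions

A clopen subset of the points of a standard open of a quotient is cut out by a fraction which is idempotent
on that open; such fractions are unique.
-/

set_option autoImplicit false

universe u

namespace Groth.Agent.FEtNbhd

variable {C : Type u} [CommRing C] (J : Ideal C)

theorem pow_mul_mem_mono {a z : C} {K L : ℕ} (h : K ≤ L) (hz : a ^ K * z ∈ J) : a ^ L * z ∈ J := by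
  obtain ⟨d, rfl⟩ := Nat.exists_eq_add_of_le h
  rw [pow_add, mul_comm (a ^ K), mul_assoc]
  exact J.mul_mem_left _ hz

theorem exists_pow_mul_mem_of_map_eq_zero {c z : C}
    (h : algebraMap (C ⧸ J) (Localization.Away (Ideal.Quotient.mk J c)) (Ideal.Quotient.mk J z) = 0) :
    ∃ K, c ^ K * z ∈ J := by
  obtain ⟨⟨_, K, rfl⟩, hK⟩ :=
    (IsLocalization.map_eq_zero_iff (Submonoid.powers (Ideal.Quotient.mk J c))
      (Localization.Away (Ideal.Quotient.mk J c)) _).1 h
  exact ⟨K, Ideal.Quotient.eq_zero_iff_mem.1 (by rw [map_mul, map_pow]; exact hK)⟩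

/-- An idempotent fraction is determined by its points. -/
theorem frac_unique {a b m m' : C} {k l : ℕ} (ha : ∃ K, a ^ K * (m * (m - a ^ k)) ∈ J)
    (hb : ∃ K, b ^ K * (m' * (m' - b ^ l)) ∈ J)
    (hQ : ∀ Q : PrimeSpectrum C, J ≤ Q.asIdeal → a * b ∉ Q.asIdeal → (m ∈ Q.asIdeal ↔ m' ∈ Q.asIdeal)) :
    ∃ K, (a * b) ^ K * (b ^ l * m - a ^ k * m') ∈ J := by
  let S := Localization.Away (Ideal.Quotient.mk J (a * b))
  let φ : C →+* S := (algebraMap (C ⧸ J) S).comp (Ideal.Quotient.mk J)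
  have hu : IsUnit (φ a * φ b) := by
    rw [← map_mul]
    exact IsLocalization.Away.algebraMap_isUnit (S := S) (Ideal.Quotient.mk J (a * b))
  obtain ⟨a', ha'⟩ := (isUnit_of_mul_isUnit_left hu).exists_left_inv
  obtain ⟨b', hb'⟩ := (isUnit_of_mul_isUnit_right hu).exists_left_inv
  have hidem : ∀ {c n : C} {e : ℕ} {i : S}, i * φ c = 1 → (∃ K, c ^ K * (n * (n - c ^ e)) ∈ J) →
      IsIdempotentElem (φ n * i ^ e) := by
    rintro c n e i hi ⟨K, hK⟩
    have h0 : φ (c ^ K * (n * (n - c ^ e))) = 0 := by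
      show algebraMap _ S (Ideal.Quotient.mk J _) = 0
      rw [Ideal.Quotient.eq_zero_iff_mem.2 hK, map_zero]
    simp only [map_mul, map_pow, map_sub] at h0
    have h1 : φ n * (φ n - φ c ^ e) = 0 := by
      refine (IsUnit.mul_right_eq_zero ?_).1 h0
      exact (isUnit_iff_exists_inv'.2 ⟨i, hi⟩).pow K
    show φ n * i ^ e * (φ n * i ^ e) = φ n * i ^ e
    have hie : i ^ e * φ c ^ e = 1 := by rw [← mul_pow, hi, one_pow]
    linear_combination (i ^ e * i ^ e) * h1 + φ n * i ^ e * hie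
  have key : φ m * a' ^ k = φ m' * b' ^ l := by
    refine PrimeSpectrum.basicOpen_injOn_isIdempotentElem (hidem ha' ha) (hidem hb' hb) ?_
    refine TopologicalSpace.Opens.ext (Set.ext fun P => ?_)
    show φ m * a' ^ k ∉ P.asIdeal ↔ φ m' * b' ^ l ∉ P.asIdeal
    have hua : IsUnit a' := isUnit_iff_exists_inv.2 ⟨_, ha'⟩
    have hub : IsUnit b' := isUnit_iff_exists_inv.2 ⟨_, hb'⟩
    rw [Ideal.mul_unit_mem_iff_mem _ (hua.pow k), Ideal.mul_unit_mem_iff_mem _ (hub.pow l)]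
    refine not_congr (hQ (PrimeSpectrum.comap φ P) (fun z hz => ?_) fun h => ?_)
    · show φ z ∈ P.asIdeal
      rw [show φ z = algebraMap _ S (Ideal.Quotient.mk J z) from rfl, Ideal.Quotient.eq_zero_iff_mem.2 hz, map_zero]
      exact zero_mem _
    · exact P.2.ne_top (Ideal.eq_top_of_isUnit_mem _ h
        (IsLocalization.Away.algebraMap_isUnit (S := S) (Ideal.Quotient.mk J (a * b))))
  refine exists_pow_mul_mem_of_map_eq_zero J ?_
  show φ (b ^ l * m - a ^ k * m') = 0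
  simp only [map_sub, map_mul, map_pow]
  have hak : a' ^ k * φ a ^ k = 1 := by rw [← mul_pow, ha', one_pow]
  have hbl : b' ^ l * φ b ^ l = 1 := by rw [← mul_pow, hb', one_pow]
  linear_combination (φ a ^ k * φ b ^ l) * key - φ b ^ l * φ m * hak + φ a ^ k * φ m' * hbl

/-- A clopen subset is cut out by an idempotent fraction. -/
theorem exists_frac {a : C} {F₁ F₂ : Set (PrimeSpectrum C)} (h₁ : IsClosed F₁) (h₂ : IsClosed F₂)
    (hF : ∀ Q : PrimeSpectrum C, J ≤ Q.asIdeal → a ∉ Q.asIdeal → (Q ∈ F₁ ↔ Q ∉ F₂)) :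
    ∃ (k : ℕ) (m : C), (∃ K, a ^ K * (m * (m - a ^ k)) ∈ J) ∧
      ∀ Q : PrimeSpectrum C, J ≤ Q.asIdeal → a ∉ Q.asIdeal → (Q ∈ F₁ ↔ m ∉ Q.asIdeal) := by
  let S := Localization.Away (Ideal.Quotient.mk J a)
  let φ : C →+* S := (algebraMap (C ⧸ J) S).comp (Ideal.Quotient.mk J)
  have hmem : ∀ P : PrimeSpectrum S, J ≤ (PrimeSpectrum.comap φ P).asIdeal ∧ a ∉ (PrimeSpectrum.comap φ P).asIdeal :=
    fun P => ⟨fun z hz => by
      show φ z ∈ P.asIdeal
      rw [show φ z = algebraMap _ S (Ideal.Quotient.mk J z) from rfl, Ideal.Quotient.eq_zero_iff_mem.2 hz, map_zero]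
      exact zero_mem _,
    fun h => P.2.ne_top (Ideal.eq_top_of_isUnit_mem _ h
      (IsLocalization.Away.algebraMap_isUnit (S := S) (Ideal.Quotient.mk J a)))⟩
  have hc : IsClopen (PrimeSpectrum.comap φ ⁻¹' F₁) := by
    refine ⟨h₁.preimage (PrimeSpectrum.continuous_comap φ), ?_⟩
    rw [show PrimeSpectrum.comap φ ⁻¹' F₁ = (PrimeSpectrum.comap φ ⁻¹' F₂)ᶜ from
      Set.ext fun P => hF _ (hmem P).1 (hmem P).2]
    exact (h₂.preimage (PrimeSpectrum.continuous_comap φ)).isOpen_compl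
  obtain ⟨e, he, hFe⟩ := PrimeSpectrum.exists_idempotent_basicOpen_eq_of_isClopen hc
  obtain ⟨⟨x, ⟨_, k, rfl⟩⟩, hx⟩ := IsLocalization.surj (Submonoid.powers (Ideal.Quotient.mk J a)) e
  obtain ⟨m, rfl⟩ := Ideal.Quotient.mk_surjective x
  have hx' : e * φ a ^ k = φ m := by
    rw [← map_pow]
    exact hx
  refine ⟨k, m, exists_pow_mul_mem_of_map_eq_zero J ?_, fun Q hJQ haQ => ?_⟩
  · show φ _ = 0
    simp only [map_mul, map_sub, map_pow, ← hx']
    linear_combination (φ a ^ k * φ a ^ k) * he.eq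
  · let Qb : PrimeSpectrum (C ⧸ J) := ⟨Q.asIdeal.map (Ideal.Quotient.mk J),
      Ideal.map_isPrime_of_surjective Ideal.Quotient.mk_surjective (by rw [Ideal.mk_ker]; exact hJQ)⟩
    have hmk : ∀ z, Ideal.Quotient.mk J z ∈ Qb.asIdeal ↔ z ∈ Q.asIdeal := fun z => by
      show _ ∈ Q.asIdeal.map _ ↔ _
      rw [← Ideal.mem_comap, Ideal.comap_map_of_surjective' _ Ideal.Quotient.mk_surjective, Ideal.mk_ker,
        sup_eq_left.2 hJQ]
    obtain ⟨P, hP⟩ : Qb ∈ Set.range (PrimeSpectrum.comap (algebraMap (C ⧸ J) S)) := by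
      rw [PrimeSpectrum.localization_away_comap_range S (Ideal.Quotient.mk J a)]
      exact fun h => haQ ((hmk a).1 h)
    have hPQ : PrimeSpectrum.comap φ P = Q := PrimeSpectrum.ext (Ideal.ext fun z => by
      show φ z ∈ P.asIdeal ↔ _
      rw [← hmk z, ← hP]
      rfl)
    have h1 : Q ∈ F₁ ↔ e ∉ P.asIdeal := by
      rw [← hPQ]
      exact Set.ext_iff.1 hFe P
    rw [h1, not_iff_not, ← Ideal.mul_unit_mem_iff_mem _ ((IsLocalization.Away.algebraMap_isUnit
      (S := S) (Ideal.Quotient.mk J a)).pow k), show algebraMap (C ⧸ J) S (Ideal.Quotient.mk J a) = φ a from rfl, hx',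
      show (φ m ∈ P.asIdeal) = (m ∈ (PrimeSpectrum.comap φ P).asIdeal) from rfl, hPQ]

end Groth.Agent.FEtNbhd
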