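import Groth.Agent.LefAlgz.ColimSec
import Groth.Agent.FEtNbhd.Frac

/-!
# Clopen subsets extend to a neighbourhood

For a finite algebra on which `f` is a nonzerodivisor, with finite first local cohomology modulo `f`, a
decomposition into clopen parts of the points over the punctured hypersurface extends to a neighbourhood.
-/

noncomputable section

set_option autoImplicit false
set_option linter.style.haveILetI false
set_option backward.isDefEq.respectTransparency false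
set_option backward.isDefEq.respectTransparency.types false

universe u

open CategoryTheory AlgebraicGeometry TopologicalSpace

namespace Groth.Agent.FEtNbhd

open Groth.Agent Groth.Agent.H9Lef Groth.Agent.LefAlgz
open Groth.Agent.TildeTorsion (D)

variable {A : Type u} [CommRing A] [IsNoetherianRing A] {C : Type u} [CommRing C] [Algebra A C]

theorem mem_span_iff {f : A} {N : ℕ} {x : C} :
    x ∈ Ideal.span {algebraMap A C f ^ N} ↔ ∃ w, f ^ N • w = x := by
  rw [Ideal.mem_span_singleton']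
  exact exists_congr fun w => by rw [Algebra.smul_def, map_pow, mul_comm]

theorem sec_eq_zero_iff {f : A} (n : ℕ) (a : A) (x : C) :
    sec (ColimSec.Q f C n) (D (A := CommRingCat.of A) a) (ColimSec.q f n x) = 0 ↔
      ∃ K, algebraMap A C a ^ K * x ∈ Ideal.span {algebraMap A C f ^ (n + 1)} := by
  have hq : ∀ y : C, ColimSec.q f n y = 0 ↔ y ∈ Ideal.span {algebraMap A C f ^ (n + 1)} := fun y => by
    rw [mem_span_iff, ← mem_span_pow_smul_top]
    exact Submodule.Quotient.mk_eq_zero _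
  rw [IsLocalizedModule.eq_zero_iff (Submonoid.powers a)]
  constructor
  · rintro ⟨⟨_, K, rfl⟩, hK⟩
    refine ⟨K, (hq _).1 ?_⟩
    rw [← map_pow, ← Algebra.smul_def, map_smul]
    exact hK
  · rintro ⟨K, hK⟩
    refine ⟨⟨a ^ K, K, rfl⟩, ?_⟩
    show a ^ K • ColimSec.q f n x = 0
    rw [← map_smul, hq, Algebra.smul_def, map_pow]
    exact hK

theorem notMem_iff_of_relation {Q : PrimeSpectrum C} {a s m m' : C} {k : ℕ} (ha : a ∉ Q.asIdeal) (hs : s ∉ Q.asIdeal)
    (h : a ^ k * m - s * m' ∈ Q.asIdeal) : m ∉ Q.asIdeal ↔ m' ∉ Q.asIdeal := by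
  refine not_congr ⟨fun hm => ?_, fun hm => ?_⟩
  · have h1 : s * m' ∈ Q.asIdeal := by
      have := Q.asIdeal.sub_mem (Q.asIdeal.mul_mem_left (a ^ k) hm) h
      rwa [sub_sub_cancel] at this
    exact (Q.2.mem_or_mem h1).resolve_left hs
  · have h1 : a ^ k * m ∈ Q.asIdeal := by
      have := Q.asIdeal.add_mem h (Q.asIdeal.mul_mem_left s hm)
      rwa [sub_add_cancel] at this
    exact (Q.2.mem_or_mem h1).resolve_left fun h2 => ha (Q.2.mem_of_pow_mem _ h2)

variable [Module.Finite A C] {f : A}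

set_option maxHeartbeats 1600000 in
/-- A clopen decomposition over the punctured hypersurface extends to a neighbourhood. -/
theorem exists_clopen_nbhd [IsAdicComplete (Ideal.span {f}) A] (hreg : IsSMulRegular C f) (I : Ideal A)
    (hfin : FinH I 1 (ColimSec.Q f C 0)) {F₁ F₂ : Set (PrimeSpectrum C)} (h₁ : IsClosed F₁) (h₂ : IsClosed F₂)
    (hF : ∀ Q : PrimeSpectrum C, algebraMap A C f ∈ Q.asIdeal → ¬ I ≤ Q.asIdeal.comap (algebraMap A C) →
      (Q ∈ F₁ ↔ Q ∉ F₂)) :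
    ∃ (W : Opens (PrimeSpectrum A)) (G G' : Set (PrimeSpectrum C)), IsOpen G ∧ IsOpen G' ∧
      (∀ p : PrimeSpectrum A, ¬ I ≤ p.asIdeal → f ∈ p.asIdeal → p ∈ W) ∧
      (∀ Q : PrimeSpectrum C, PrimeSpectrum.comap (algebraMap A C) Q ∈ W → (Q ∈ G ↔ Q ∉ G')) ∧
      ∀ Q : PrimeSpectrum C, algebraMap A C f ∈ Q.asIdeal → ¬ I ≤ Q.asIdeal.comap (algebraMap A C) →
        (Q ∈ G ↔ Q ∈ F₁) := by
  obtain ⟨r, g, hg⟩ := Submodule.fg_iff_exists_fin_generating_family.1 (IsNoetherian.noetherian I)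
  let φ : A →+* C := algebraMap A C
  let J : ℕ → Ideal C := fun n => Ideal.span {φ f ^ (n + 1)}
  have hJ : ∀ n (Q : PrimeSpectrum C), J n ≤ Q.asIdeal ↔ φ f ∈ Q.asIdeal := fun n Q => by
    rw [Ideal.span_singleton_le_iff_mem]
    exact Q.2.pow_mem_iff_mem _ n.succ_pos
  have hgI : ∀ i, g i ∈ I := fun i => hg ▸ Submodule.subset_span ⟨i, rfl⟩
  have hnotle : ∀ i (Q : PrimeSpectrum C), φ (g i) ∉ Q.asIdeal → ¬ I ≤ Q.asIdeal.comap φ :=
    fun i Q hi hle => hi (hle (hgI i))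
  choose k m hidem hpts using fun n i => exists_frac (J n) (a := φ (g i)) h₁ h₂ fun Q hQ hi =>
    hF Q ((hJ n Q).1 hQ) (hnotle i Q hi)
  -- the sections
  have hsec : ∀ n, ∃ z : Sct A (ColimSec.Q f C n) (LocCoh.puncturedOpen A I), ∀ i,
      g i ^ k n i • chart hg z i = ℓg g (ColimSec.Q f C n) i (ColimSec.q f n (m n i)) := by
    intro n
    let k₀ := Finset.univ.sup (k n)
    let m' : Fin r → ColimSec.Q f C n := fun i => g i ^ (k₀ - k n i) • ColimSec.q f n (m n i)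
    choose x hx using fun i => (bijective_smul (ℓ := ℓg g (ColimSec.Q f C n)) (g := g) i k₀).2 (ℓg g _ i (m' i))
    have key : ∀ i j, ∃ K, (g i * g j) ^ K • (g j ^ k₀ • m' i - g i ^ k₀ • m' j) = 0 := by
      intro i j
      obtain ⟨K, hK⟩ := frac_unique (J n) (hidem n i) (hidem n j) fun Q hQ hij => not_iff_not.1
        ((hpts n i Q hQ fun h => hij (Q.asIdeal.mul_mem_right _ h)).symm.trans
          (hpts n j Q hQ fun h => hij (Q.asIdeal.mul_mem_left _ h)))
      obtain ⟨w, hw⟩ := mem_span_iff.1 hK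
      refine ⟨K, ?_⟩
      simp only [m', smul_smul, ← map_smul, ← map_sub]
      obtain ⟨di, hdi⟩ := Nat.exists_eq_add_of_le (Finset.le_sup (f := k n) (Finset.mem_univ i))
      obtain ⟨dj, hdj⟩ := Nat.exists_eq_add_of_le (Finset.le_sup (f := k n) (Finset.mem_univ j))
      refine (Submodule.Quotient.mk_eq_zero _).2 (mem_span_pow_smul_top.2 ⟨(g i ^ di * g j ^ dj) • w, ?_⟩)
      rw [smul_comm, hw]
      have ei : k₀ = k n i + di := hdi
      have ej : k₀ = k n j + dj := hdj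
      rw [show g j ^ k₀ = g j ^ (k n j + dj) from congrArg _ ej, show g i ^ k₀ = g i ^ (k n i + di) from congrArg _ ei,
        show k₀ - k n i = di by omega, show k₀ - k n j = dj by omega]
      simp only [smul_sub, Algebra.smul_def, φ, map_mul, map_pow]
      ring
    choose K hK using key
    obtain ⟨z, hz⟩ := exists_chart_eq hg (x := x) (isApprox_bot.1 ((isApprox_iff hx).2
      ⟨Finset.univ.sup (fun p : Fin r × Fin r => K p.1 p.2), fun i j => by
        obtain ⟨e, he⟩ := Nat.exists_eq_add_of_le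
          (Finset.le_sup (f := fun p : Fin r × Fin r => K p.1 p.2) (Finset.mem_univ (i, j)))
        rw [Submodule.mem_bot, he, add_comm _ e, pow_add _ e, mul_smul, hK, smul_zero]⟩))
    refine ⟨z, fun i => (bijective_smul (ℓ := ℓg g (ColimSec.Q f C n)) (g := g) i (k₀ - k n i)).1 ?_⟩
    show g i ^ (k₀ - k n i) • g i ^ k n i • chart hg z i = g i ^ (k₀ - k n i) • ℓg g _ i (ColimSec.q f n (m n i))
    rw [smul_smul, ← pow_add, Nat.sub_add_cancel (Finset.le_sup (f := k n) (Finset.mem_univ i)), congrFun hz i,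
      ← map_smul]
    exact hx i
  choose z hz using hsec
  have htr : ∀ n, smap (ColimSec.tr f n) _ (z (n + 1)) = z n := fun n => by
    refine chart_injective hg fun i => (bijective_smul (ℓ := ℓg g (ColimSec.Q f C n)) (g := g) i
      (k (n + 1) i + k n i)).1 ?_
    show g i ^ (k (n + 1) i + k n i) • chart hg (smap (ColimSec.tr f n) _ (z (n + 1))) i =
      g i ^ (k (n + 1) i + k n i) • chart hg (z n) i
    have hmk : ColimSec.tr f n (ColimSec.q f (n + 1) (m (n + 1) i)) = ColimSec.q f n (m (n + 1) i) :=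
      ColimSec.tr_mk n _
    nth_rewrite 2 [pow_add (g i)]
    rw [mul_smul, hz n i, add_comm (k (n + 1) i) (k n i), pow_add (g i), mul_smul, ← smap_chart, ← map_smul, hz (n + 1) i, smap_ℓg, hmk,
      ← map_smul, ← map_smul, ← map_smul, ← map_smul, ← sub_eq_zero, ← map_sub, ← map_sub]
    refine (sec_eq_zero_iff n (g i) _).2 ?_
    obtain ⟨K, hK⟩ := frac_unique (J n) (a := φ (g i)) (b := φ (g i))
      ((hidem (n + 1) i).imp fun K h => Ideal.span_le.2 (Set.singleton_subset_iff.2 (Ideal.mem_span_singleton.2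
        (pow_dvd_pow _ (Nat.le_succ (n + 1))))) h) (hidem n i) fun Q hQ hii => not_iff_not.1
      ((hpts (n + 1) i Q ((hJ _ Q).2 ((hJ n Q).1 hQ)) fun h => hii (Q.asIdeal.mul_mem_right _ h)).symm.trans
        (hpts n i Q hQ fun h => hii (Q.asIdeal.mul_mem_right _ h)))
    refine ⟨2 * K, ?_⟩
    rw [Algebra.smul_def, Algebra.smul_def, map_pow, map_pow, pow_mul, sq]
    exact hK
  let zL : ColimSec.Lim I f C := ⟨z, htr⟩
  let ι := {i : A × A × C // (∀ x ∈ ColimSec.Null (f := f) (M := C) I, i.2.1 • x = 0) ∧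
    ∀ n, i.1 • z n = sec (ColimSec.Q f C n) (LocCoh.puncturedOpen A I) (ColimSec.q f n i.2.2)}
  have hrel : ∀ (i : ι) n j, ∃ K, φ (g j) ^ K * (φ (g j) ^ k n j * i.1.2.2 - φ i.1.1 * m n j) ∈ J n := by
    intro i n j
    refine (sec_eq_zero_iff n (g j) _).1 ?_
    have e := congrArg (fun w => g j ^ k n j • chart hg w j) (i.2.2 n)
    simp only [chart, map_smul, sres_sec] at e
    rw [smul_comm] at e
    rw [show φ (g j) ^ k n j * i.1.2.2 - φ i.1.1 * m n j = g j ^ k n j • i.1.2.2 - i.1.1 • m n j by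
      simp only [Algebra.smul_def, φ, map_pow], map_sub, map_sub, map_smul, map_smul, map_smul, map_smul, ← e,
      sub_eq_zero]
    exact congrArg (i.1.1 • ·) (hz n j)
  let M₀ : ι → C := fun i => i.1.2.2
  let S₀ : ι → C := fun i => φ i.1.1
  let T₀ : ι → C := fun i => φ i.1.2.1
  have hnull : ∀ x : C, (∀ n j, ∃ K, φ (g j) ^ K * x ∈ J n) → x ∈ ColimSec.Null (f := f) (M := C) I := fun x hx =>
    LinearMap.mem_ker.2 (Subtype.ext (funext fun n => by
      show (ColimSec.toLim I f x).1 n = 0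
      rw [ColimSec.toLim_apply]
      refine chart_injective hg (z' := 0) fun j => ?_
      show sres (D_le hg j) (sec (ColimSec.Q f C n) (LocCoh.puncturedOpen A I) (ColimSec.q f n x)) =
        sres (D_le hg j) (0 : Sct A (ColimSec.Q f C n) (LocCoh.puncturedOpen A I))
      rw [sres_sec, map_zero]
      exact (sec_eq_zero_iff n (g j) x).2 (hx n j)))
  have hsq : ∀ i : ι, T₀ i * (M₀ i * (M₀ i - S₀ i)) = 0 := fun i => by
    rw [show ∀ x, T₀ i * x = i.1.2.1 • x from fun x => (Algebra.smul_def _ _).symm]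
    refine i.2.1 _ (hnull _ fun n j => ?_)
    obtain ⟨K, hK⟩ := hrel i n j
    obtain ⟨L, hL⟩ := hidem n j
    refine ⟨K + L + 2 * k n j, ?_⟩
    have e : φ (g j) ^ (K + L + 2 * k n j) * (M₀ i * (M₀ i - S₀ i)) =
        φ (g j) ^ L * (φ (g j) ^ k n j * M₀ i + S₀ i * m n j - φ (g j) ^ k n j * S₀ i) *
            (φ (g j) ^ K * (φ (g j) ^ k n j * i.1.2.2 - φ i.1.1 * m n j)) +
          φ (g j) ^ K * (S₀ i * S₀ i) * (φ (g j) ^ L * (m n j * (m n j - φ (g j) ^ k n j))) := by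
      simp only [M₀, S₀]
      ring
    rw [e]
    exact (J n).add_mem ((J n).mul_mem_left _ hK) ((J n).mul_mem_left _ hL)
  have hcons : ∀ i j : ι, T₀ i * (S₀ j * M₀ i - S₀ i * M₀ j) = 0 := fun i j => by
    rw [show ∀ x, T₀ i * x = i.1.2.1 • x from fun x => (Algebra.smul_def _ _).symm]
    refine i.2.1 _ (hnull _ fun n l => ?_)
    obtain ⟨K, hK⟩ := hrel i n l
    obtain ⟨L, hL⟩ := hrel j n l
    refine ⟨K + L + k n l, ?_⟩
    have e : φ (g l) ^ (K + L + k n l) * (S₀ j * M₀ i - S₀ i * M₀ j) =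
        φ (g l) ^ L * S₀ j * (φ (g l) ^ K * (φ (g l) ^ k n l * i.1.2.2 - φ i.1.1 * m n l)) -
          φ (g l) ^ K * S₀ i * (φ (g l) ^ L * (φ (g l) ^ k n l * j.1.2.2 - φ j.1.1 * m n l)) := by
      simp only [M₀, S₀]
      ring
    rw [e]
    exact (J n).sub_mem ((J n).mul_mem_left _ hK) ((J n).mul_mem_left _ hL)
  let W : Opens (PrimeSpectrum A) := ⨆ i : ι, PrimeSpectrum.basicOpen (i.1.1 * i.1.2.1)
  let G : Set (PrimeSpectrum C) := ⋃ i : ι, ↑(PrimeSpectrum.basicOpen (S₀ i * T₀ i * M₀ i))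
  let G' : Set (PrimeSpectrum C) := ⋃ i : ι, ↑(PrimeSpectrum.basicOpen (S₀ i * T₀ i * (S₀ i - M₀ i)))
  have hGmem : ∀ (Q : PrimeSpectrum C) (x y : C), (x * y ∉ Q.asIdeal ↔ x ∉ Q.asIdeal ∧ y ∉ Q.asIdeal) :=
    fun Q x y => by rw [Q.2.mul_mem_iff_mem_or_mem, not_or]
  have hW : ∀ p : PrimeSpectrum A, ¬ I ≤ p.asIdeal → f ∈ p.asIdeal → p ∈ W := fun p hp hfp => by
    obtain ⟨s, hs, x, hx⟩ := ColimSec.exists_fine I hreg hfin zL (p := p) hp hfp
    obtain ⟨t, ht, ht0⟩ := ColimSec.exists_null (M := C) I (p := p) hp hfp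
    exact Opens.mem_iSup.2 ⟨⟨(s, t, x), ht0, hx⟩, fun h => (p.2.mem_or_mem h).elim hs ht⟩
  refine ⟨W, G, G', isOpen_iUnion fun i => (PrimeSpectrum.basicOpen _).isOpen,
    isOpen_iUnion fun i => (PrimeSpectrum.basicOpen _).isOpen, hW, fun Q hQ => ?_, fun Q hfQ hIQ => ?_⟩
  · obtain ⟨i, hi⟩ := Opens.mem_iSup.1 hQ
    have hst : S₀ i * T₀ i ∉ Q.asIdeal := by
      intro h
      refine hi ?_
      show φ (i.1.1 * i.1.2.1) ∈ Q.asIdeal
      rw [map_mul]
      exact h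
    obtain ⟨hsi, hti⟩ := (hGmem Q _ _).1 hst
    constructor
    · intro hG hG'
      obtain ⟨a, ha⟩ := Set.mem_iUnion.1 hG
      obtain ⟨b, hb⟩ := Set.mem_iUnion.1 hG'
      obtain ⟨hab, hma⟩ := (hGmem Q _ _).1 ha
      obtain ⟨hsa, hta⟩ := (hGmem Q _ _).1 hab
      obtain ⟨hbb, hmb⟩ := (hGmem Q _ _).1 hb
      obtain ⟨hsb, -⟩ := (hGmem Q _ _).1 hbb
      have h1 : S₀ b * M₀ a - S₀ a * M₀ b ∈ Q.asIdeal :=
        (Q.2.mem_or_mem (hcons a b ▸ Q.asIdeal.zero_mem : T₀ a * _ ∈ Q.asIdeal)).resolve_left hta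
      have h2 : M₀ a - S₀ a ∈ Q.asIdeal := (Q.2.mem_or_mem
        ((Q.2.mem_or_mem (hsq a ▸ Q.asIdeal.zero_mem : T₀ a * _ ∈ Q.asIdeal)).resolve_left hta)).resolve_left hma
      have h3 : S₀ a * (S₀ b - M₀ b) ∈ Q.asIdeal := by
        have := Q.asIdeal.sub_mem h1 (Q.asIdeal.mul_mem_left (S₀ b) h2)
        rw [show S₀ b * M₀ a - S₀ a * M₀ b - S₀ b * (M₀ a - S₀ a) = S₀ a * (S₀ b - M₀ b) by ring] at this
        exact this
      exact (Q.2.mem_or_mem h3).elim hsa hmb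
    · intro h
      by_cases hm : M₀ i ∈ Q.asIdeal
      · refine absurd (Set.mem_iUnion.2 ⟨i, (hGmem Q _ _).2 ⟨hst, fun h' => hsi ?_⟩⟩) h
        simpa using Q.asIdeal.add_mem h' hm
      · exact Set.mem_iUnion.2 ⟨i, (hGmem Q _ _).2 ⟨hst, hm⟩⟩
  · obtain ⟨l, hl⟩ : ∃ l, φ (g l) ∉ Q.asIdeal := by
      by_contra hne
      push Not at hne
      exact hIQ (hg ▸ Submodule.span_le.2 (Set.range_subset_iff.2 hne))
    have hiff : ∀ i : ι, S₀ i ∉ Q.asIdeal → (M₀ i ∉ Q.asIdeal ↔ Q ∈ F₁) := fun i hsi => by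
      obtain ⟨K, hK⟩ := hrel i 0 l
      have h1 : φ (g l) ^ k 0 l * i.1.2.2 - φ i.1.1 * m 0 l ∈ Q.asIdeal :=
        (Q.2.mem_or_mem ((hJ 0 Q).2 hfQ hK)).resolve_left fun h => hl (Q.2.mem_of_pow_mem _ h)
      exact (notMem_iff_of_relation hl hsi h1).trans (hpts 0 l Q ((hJ 0 Q).2 hfQ) hl).symm
    constructor
    · intro hG
      obtain ⟨a, ha⟩ := Set.mem_iUnion.1 hG
      obtain ⟨hab, hma⟩ := (hGmem Q _ _).1 ha
      exact (hiff a ((hGmem Q _ _).1 hab).1).1 hma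
    · intro hQ
      obtain ⟨i, hi⟩ := Opens.mem_iSup.1 (hW (PrimeSpectrum.comap φ Q) hIQ hfQ)
      have hst : S₀ i * T₀ i ∉ Q.asIdeal := fun h => hi (by
        show φ (i.1.1 * i.1.2.1) ∈ Q.asIdeal
        rw [map_mul]
        exact h)
      exact Set.mem_iUnion.2 ⟨i, (hGmem Q _ _).2 ⟨hst, (hiff i ((hGmem Q _ _).1 hst).1).2 hQ⟩⟩

end Groth.Agent.FEtNbhd
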