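import Groth.Agent.LefAlgz.DualKill
import Groth.Agent.LefAlgz.DepthSelf
import Groth.Agent.LefAlgz.ColimSec
import Groth.Agent.KFlatLib.Ring.DualizingFibreRows

/-!
# A finite algebra with finite first local cohomology modulo `f`

For a local ring with a dualizing complex whose components off `f` have dimension at least three there is a finite
algebra, surjective off `f`, on which `f` is regular and whose first local cohomology modulo `f` is finite.
-/

noncomputable section

set_option autoImplicit false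
set_option linter.style.haveILetI false
set_option backward.isDefEq.respectTransparency false
set_option backward.isDefEq.respectTransparency.types false

universe u

open CategoryTheory IsLocalRing
attribute [local instance] HasDerivedCategory.standard

namespace Groth.Agent.FEtNbhd

open Groth.Agent Groth.Agent.LefAlgz

variable {A : Type u} [CommRing A] [IsNoetherianRing A] [IsLocalRing A] {ω : Dual.D A} {f : A}

/-- Depth plus dimension exceeds two at the primes off `f` specialising to `V(f)` outside the closed point. -/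
def Star1 (f : A) : Prop :=
  ∀ (p : Ideal A) [p.IsPrime], f ∉ p → (∃ q : Ideal A, q.IsPrime ∧ p ≤ q ∧ f ∈ q ∧ q ≠ maximalIdeal A) →
    (2 : WithBot ℕ∞) <
      (LocCoh.depth (Localization.AtPrime p) (Localization.AtPrime p) : WithBot ℕ∞) + ringKrullDim (A ⧸ p)

/-- The local ring at a curve prime has first local cohomology killed by a power of `f`. -/
theorem killedH_curve' (hω : Dual.IsDualizing A ω) (hstar : Star1 f) {p : Ideal A} [p.IsPrime]
    (hp : IsCurve f p) :
    H9Lef.KilledH (maximalIdeal (Localization.AtPrime p)) (algebraMap A (Localization.AtPrime p) f) 1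
      (Localization.AtPrime p) := by
  haveI := Groth.Agent.H9Misc.DRingLBase.hasLBaseChange (algebraMap A (Localization p.primeCompl))
  have hωp := S1775.result A p.primeCompl ω hω
  obtain ⟨n, -, hcov, hmono, -⟩ := KFlatLib.exists_extDegree hω
  let φ := algebraMap A (Localization.AtPrime p)
  let P : PrimeSpectrum A := ⟨p, inferInstance⟩
  let M : PrimeSpectrum A := IsLocalRing.closedPoint A
  have hPM : P < M := lt_of_le_of_ne (IsLocalRing.le_maximalIdeal hp.prime.ne_top : P ≤ M)
    fun h => hp.ne (congrArg PrimeSpectrum.asIdeal h)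
  have hnPM : n (IsLocalRing.closedPoint A) = n P + 1 := hcov P M ⟨hPM, fun R hPR hRM => hRM.ne (PrimeSpectrum.ext
    (hp.max R.asIdeal R.isPrime hPR))⟩
  refine H9Lef.killedH_of_dualizing hωp fun Q _ hfQ => ?_
  let q := Q.comap φ
  have hqp : q ≤ p := by
    have h := Ideal.comap_mono (f := φ) (IsLocalRing.le_maximalIdeal (Ideal.IsPrime.ne_top ‹Q.IsPrime›))
    exact h.trans (Localization.AtPrime.comap_maximalIdeal (I := p)).le
  have hfq : f ∉ q := fun h => hfQ h
  have hstar' := hstar q hfq ⟨p, hp.prime, hqp, hp.mem, hp.ne⟩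
  rw [depth_atPrime_atPrime p Q]
  let Qq : PrimeSpectrum A := ⟨q, inferInstance⟩
  have hlt : Qq < P := lt_of_le_of_ne hqp fun h => hfq (by
    rw [show q = p from congrArg PrimeSpectrum.asIdeal h]; exact hp.mem)
  by_cases hc : Qq ⋖ P
  · obtain ⟨e, he, he'⟩ := KFlatLib.ringKrullDim_quotient_eq hcov hmono Qq
    have := hcov Qq P hc
    have he2 : e = 2 := by omega
    rw [show ringKrullDim (A ⧸ q) = (e : WithBot ℕ∞) from he, he2] at hstar'
    have h1Q : Q < maximalIdeal (Localization.AtPrime p) := lt_of_le_of_ne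
      (IsLocalRing.le_maximalIdeal (Ideal.IsPrime.ne_top ‹Q.IsPrime›)) fun h => hfQ (by
        rw [h]; exact (IsLocalization.AtPrime.to_map_mem_maximal_iff _ p f).2 hp.mem)
    have h0 : (((1 : ℕ) : ℕ∞) : WithBot ℕ∞) ≤ ringKrullDim (Localization.AtPrime p ⧸ Q) := by
      rw [ringKrullDim_quotient]
      let l : LTSeries (PrimeSpectrum.zeroLocus (Q : Set (Localization.AtPrime p))) :=
        { length := 1
          toFun := ![⟨⟨Q, inferInstance⟩, fun x hx => hx⟩, ⟨IsLocalRing.closedPoint _, fun x hx => h1Q.le hx⟩]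
          step := fun i => by
            fin_cases i
            exact h1Q }
      exact le_iSup_of_le l (le_of_eq rfl)
    obtain ⟨d, hd⟩ : ∃ d : ℕ∞, d = LocCoh.depth (Localization.AtPrime q) (Localization.AtPrime q) := ⟨_, rfl⟩
    rw [← hd] at hstar' ⊢
    refine lt_of_lt_of_le ?_ (add_le_add le_rfl h0)
    induction d using ENat.recTopCoe with
    | top => exact WithBot.coe_lt_coe.2 (WithTop.coe_lt_top _)
    | coe d =>
      have h4' : (((2 : ℕ) : ℕ∞) : WithBot ℕ∞) < (((d + 2 : ℕ) : ℕ∞) : WithBot ℕ∞) := by push_cast; exact hstar'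
      have h4 : 2 < d + 2 := by exact_mod_cast h4'
      exact_mod_cast (show 1 < d + 1 by omega)
  · obtain ⟨R, hQR, hRP⟩ : ∃ R, Qq < R ∧ R < P := by
      rw [not_covBy_iff hlt] at hc
      exact hc
    have hdR : Disjoint (p.primeCompl : Set A) (R.asIdeal : Set A) := Set.disjoint_left.2 fun x hx hxR =>
      hx (hRP.le hxR)
    let R' := R.asIdeal.map φ
    haveI hR' : R'.IsPrime := IsLocalization.isPrime_of_isPrime_disjoint p.primeCompl _ _ R.isPrime hdR
    have hcR : R'.comap φ = R.asIdeal :=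
      IsLocalization.under_map_of_isPrime_disjoint p.primeCompl _ R.isPrime hdR
    have h1 : Q < R' := by
      refine lt_of_le_of_ne ?_ fun h => hQR.ne (PrimeSpectrum.ext (show q = R.asIdeal by rw [← hcR, ← h]))
      rw [← IsLocalization.map_comap p.primeCompl (Localization.AtPrime p) Q]
      exact Ideal.map_mono hQR.le
    have h2 : R' < maximalIdeal (Localization.AtPrime p) := by
      refine lt_of_le_of_ne (IsLocalRing.le_maximalIdeal hR'.ne_top) fun h => hRP.ne (PrimeSpectrum.ext ?_)
      rw [← hcR, h]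
      exact Localization.AtPrime.comap_maximalIdeal
    have h2' : (2 : WithBot ℕ∞) ≤ ringKrullDim (Localization.AtPrime p ⧸ Q) := by
      rw [ringKrullDim_quotient]
      let l : LTSeries (PrimeSpectrum.zeroLocus (Q : Set (Localization.AtPrime p))) :=
        { length := 2
          toFun := ![⟨⟨Q, inferInstance⟩, fun x hx => hx⟩, ⟨⟨R', hR'⟩, fun x hx => h1.le hx⟩,
            ⟨IsLocalRing.closedPoint _, fun x hx => h2.le (h1.le hx)⟩]
          step := fun i => by
            fin_cases i
            · exact h1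
            · exact h2 }
      exact le_iSup_of_le l (le_of_eq rfl)
    calc ((1 : ℕ) : WithBot ℕ∞) < 2 := by exact_mod_cast Nat.one_lt_two
      _ ≤ _ := h2'.trans (le_add_of_nonneg_left (WithBot.coe_le_coe.2 bot_le))

theorem exists_good' (hω : Dual.IsDualizing A ω) (hstar : Star1 f) {p : Ideal A} (hp : IsCurve f p) :
    ∃ c, Good f p c := by
  haveI := hp.prime
  let R := Localization.AtPrime p
  let φ := algebraMap A R
  let fR := φ f
  obtain ⟨r, g, hg⟩ := Submodule.fg_iff_exists_fin_generating_family.1 (IsNoetherian.noetherian p)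
  have hg' : Ideal.span (Set.range g) = p := hg
  let G : Fin r → R := fun i => φ (g i)
  have hG : Ideal.span (Set.range G) = maximalIdeal R := by
    rw [show Set.range G = φ '' Set.range g from Set.range_comp φ g, ← Ideal.map_span, hg']
    exact Localization.AtPrime.map_eq_maximalIdeal
  let ℓ : ∀ i, R →ₗ[R] Localization.Away (G i) := fun i => Algebra.linearMap R _
  haveI : ∀ i, IsLocalizedModule (Submonoid.powers (G i)) (ℓ i) := fun i => inferInstance
  obtain ⟨c, hc⟩ := H9Lef.exists_pow_smul_mem_range hG ℓ (killedH_curve' hω hstar hp)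
  obtain ⟨t, ht⟩ := H9Lef.exists_torsion_exponent fR R
  obtain ⟨c₀, hc₀⟩ := H9Lef.exists_torsion_exponent f A
  -- the torsion is killed uniformly
  have hker : ∀ z : A, algebraMap A (Af f) z = 0 → f ^ c₀ * z = 0 := fun z hz => by
    obtain ⟨⟨_, n, rfl⟩, hn⟩ := (IsLocalization.map_eq_zero_iff (Submonoid.powers f) (Af f) z).1 hz
    exact hc₀ n z hn
  obtain ⟨e0, he0⟩ := H9Lef.killedH_zero (I := maximalIdeal R) (show fR ∈ maximalIdeal R from
    (IsLocalization.AtPrime.to_map_mem_maximal_iff R p f).2 hp.mem) R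
  refine ⟨e0 + (c + t) + c₀, fun w hw => ?_⟩
  obtain ⟨⟨z, _, j, rfl⟩, hz⟩ := IsLocalization.surj (Submonoid.powers f) w
  replace hz : f ^ j • w = algebraMap A (Af f) z := by rw [Algebra.smul_def, mul_comm]; exact hz
  -- reading the hypothesis in the local ring
  have hG' : ∀ i, ∃ (k : ℕ) (b : R), G i ^ k * φ (f ^ c₀ * z) = fR ^ j * b := fun i => by
    obtain ⟨s, hs, k, b, hb⟩ := hw (g i) (hg' ▸ Ideal.subset_span ⟨i, rfl⟩)
    have h1 : algebraMap A (Af f) (s * g i ^ k * z - f ^ j * b) = 0 := by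
      rw [map_sub, map_mul, map_mul (algebraMap A (Af f)) (f ^ j), ← Algebra.smul_def, ← hz, smul_comm,
        Algebra.smul_def (f ^ j), show (s * g i ^ k) • w = algebraMap A (Af f) b from hb.symm, sub_self]
    have h2 := congrArg φ (hker _ h1)
    obtain ⟨v, hv⟩ := (IsLocalization.map_units R (⟨s, hs⟩ : p.primeCompl)).exists_left_inv
    refine ⟨k, v * φ (f ^ c₀ * b), ?_⟩
    simp only [map_mul, map_sub, map_zero, map_pow] at h2 hv ⊢
    linear_combination v * h2 - (φ (g i) ^ k * φ f ^ c₀ * φ z) * hv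
  choose k b hb using hG'
  let K := Finset.univ.sup k
  have hb' : ∀ i, ∃ b' : R, G i ^ K * φ (f ^ c₀ * z) = fR ^ j * b' := fun i => by
    obtain ⟨d, hd⟩ := Nat.exists_eq_add_of_le (Finset.le_sup (f := k) (Finset.mem_univ i))
    exact ⟨G i ^ d * b i, by rw [show K = k i + d from hd, pow_add]; linear_combination (G i ^ d) * hb i⟩
  choose b' hb' using hb'
  have hsec : ∀ i i', G i' ^ K * (fR ^ t * b' i) = G i ^ K * (fR ^ t * b' i') := fun i i' => by
    have h0 : fR ^ j • (G i' ^ K * b' i - G i ^ K * b' i') = 0 := by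
      rw [smul_eq_mul]
      linear_combination (G i ^ K) * hb' i' - (G i' ^ K) * hb' i
    have := ht j _ h0
    rw [smul_eq_mul] at this
    linear_combination this
  have hu : ∀ i, IsUnit (algebraMap R (Localization.Away (G i)) (G i ^ K)) := fun i => by
    rw [map_pow]; exact (IsLocalization.Away.algebraMap_isUnit (G i)).pow K
  choose ui hui using fun i => (hu i).exists_left_inv
  let x : ∀ i, Localization.Away (G i) := fun i => ui i * ℓ i (fR ^ t * b' i)
  have hx1 : ∀ i, G i ^ K • x i = ℓ i (fR ^ t * b' i) := fun i => by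
    refine (Algebra.smul_def (A := Localization.Away (G i)) (G i ^ K) (x i)).trans ?_
    rw [← mul_assoc, mul_comm (algebraMap R _ (G i ^ K)), hui, one_mul]
  have hxs : H9Lef.IsSec ℓ G x := ⟨K, fun i => fR ^ t * b' i, hx1, hsec⟩
  obtain ⟨β, hβ⟩ := hc ⟨x, hxs⟩
  -- the difference is torsion for the maximal ideal
  have hdiff : ∀ i, ∃ N, G i ^ N * (fR ^ (c + t) * φ (f ^ c₀ * z) - fR ^ j * β) = 0 := fun i => by
    have h1 : ℓ i β = fR ^ c • x i := congrFun (congrArg Subtype.val hβ) i
    have h2 : algebraMap R (Localization.Away (G i)) (G i ^ K * β - fR ^ c * (fR ^ t * b' i)) = 0 := by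
      rw [map_sub, map_mul, map_mul, show algebraMap R (Localization.Away (G i)) β = fR ^ c • x i from h1,
        ← Algebra.smul_def, smul_comm, hx1]
      exact sub_eq_zero.2 (Algebra.smul_def (A := Localization.Away (G i)) _ _)
    obtain ⟨⟨_, N, rfl⟩, hN⟩ := (IsLocalization.map_eq_zero_iff (Submonoid.powers (G i)) _ _).1 h2
    refine ⟨N + K, ?_⟩
    rw [pow_add (G i) N K]
    simp only at hN
    rw [pow_add fR c t]
    linear_combination (-(fR ^ j)) * hN + (G i ^ N * fR ^ c * fR ^ t) * hb' i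
  choose N hN using hdiff
  have htor : (fR ^ (c + t) * φ (f ^ c₀ * z) - fR ^ j * β) ∈ DRing.torsionSub (maximalIdeal R) R := by
    obtain ⟨n, hn⟩ := H9Lef.exists_pow_le_span hG (Finset.univ.sup N)
    refine ⟨n, fun a ha => ?_⟩
    have := hn ha
    clear ha
    induction this using Submodule.span_induction with
    | mem a ha =>
      obtain ⟨i, rfl⟩ := ha
      obtain ⟨d, hd⟩ := Nat.exists_eq_add_of_le (Finset.le_sup (f := N) (Finset.mem_univ i))
      show G i ^ Finset.univ.sup N * _ = 0
      rw [hd, add_comm, pow_add, mul_assoc, hN, mul_zero]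
    | zero => rw [zero_smul]
    | add _ _ _ _ h h' => rw [add_smul, h, h', add_zero]
    | smul _ _ _ h => rw [smul_assoc, h, smul_zero]
  have hfin : fR ^ e0 * (fR ^ (c + t) * φ (f ^ c₀ * z) - fR ^ j * β) = 0 := by
    have h1 := congrArg (LC.H0Equiv (maximalIdeal R) (ModuleCat.of R R))
      (he0 ((LC.H0Equiv (maximalIdeal R) (ModuleCat.of R R)).symm ⟨_, htor⟩))
    rw [map_smul, LinearEquiv.apply_symm_apply, map_zero] at h1
    exact congrArg Subtype.val h1
  -- back to the fractions
  obtain ⟨⟨β₁, s₁⟩, hβ₁⟩ := IsLocalization.surj p.primeCompl (fR ^ e0 * β)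
  have h3 : φ ((s₁ : A) * (f ^ (e0 + (c + t) + c₀) * z) - f ^ j * β₁) = 0 := by
    simp only at hβ₁
    simp only [map_sub, map_mul, map_pow, pow_add] at hfin ⊢
    rw [← hβ₁]
    linear_combination (φ (s₁ : A)) * hfin
  obtain ⟨s₂, hs₂⟩ := (IsLocalization.map_eq_zero_iff p.primeCompl R _).1 h3
  refine ⟨(s₂ : A) * s₁, fun h => (hp.prime.mem_or_mem h).elim s₂.2 s₁.2, ?_⟩
  refine ⟨(s₂ : A) * β₁, (isUnit_smul_Af f j).1 ?_⟩
  show f ^ j • algebraMap A (Af f) ((s₂ : A) * β₁) = f ^ j • ((s₂ : A) * s₁ * f ^ (e0 + (c + t) + c₀)) • w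
  rw [smul_comm (f ^ j) (_ * _) w, hz, Algebra.smul_def, Algebra.smul_def, ← map_mul, ← map_mul]
  congr 1
  linear_combination -hs₂

/-- One exponent serves all curves. -/
theorem exists_good_all' (hω : Dual.IsDualizing A ω) (hstar : Star1 f) :
    ∃ c, ∀ p, IsCurve f p → Good f p c := by
  classical
  choose d hd using fun p : {p // p ∈ bad f} => exists_good' hω hstar p.2.2
  haveI : Fintype {p // p ∈ bad f} := (finite_bad f).fintype
  refine ⟨Finset.univ.sup d, fun p hp => ?_⟩
  by_cases h : p ∈ bad f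
  · exact (hd ⟨p, h⟩).mono f (Finset.le_sup (Finset.mem_univ _))
  · exact (good_zero_of_notMem f hp h).mono f (Nat.zero_le _)

variable {c : ℕ}

/-- The first two local cohomology modules of the lattice algebra are killed modulo `f`. -/
theorem annihilator_multB (hω : Dual.IsDualizing A ω) (hgood : ∀ p, IsCurve f p → Good f p c) (i : ℕ) (hi : i ≤ 2) :
    maximalIdeal A ≤ (Module.annihilator A (LocCoh.H (maximalIdeal A) i (multB f c)) ⊔ Ideal.span {f}).radical := by
  haveI := finite_multB f c
  obtain ⟨ω', hω', hN⟩ := H9Lef.exists_normalized hω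
  obtain ⟨a, b, -, hGE, -⟩ := KFlatLib.exists_bounds_of_isDualizing hω'
  haveI := hGE
  haveI : Module.Finite A (Dual.inD A (multB f c) ⟶ ω'⟦(-(i : ℤ))⟧) :=
    KFlatLib.finite_hom_module ω' a hω'.finite_cohomology (multB f c) _
  refine maximalIdeal_le_radical fun q hq hle => ?_
  rw [← S1713.result A ω' hω' hN (multB f c) i] at hle
  by_contra hne
  have h1 : (LocCoh.depth (Localization.AtPrime q) (LocalizedModule q.primeCompl (multB f c)) : WithBot ℕ∞) +
        ringKrullDim (A ⧸ q) ≤ (i : WithBot ℕ∞) := by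
    refine (S1712.result A ω' hω' hN (multB f c) i ⟨q, hq⟩).1 ⟨i, le_rfl, ?_⟩
    rw [Module.support_eq_zeroLocus]
    exact (le_sup_left).trans hle
  have h2 := two_lt_depth_add_dim hω hgood (hp := hq)
    ((le_sup_right.trans hle) (Ideal.mem_span_singleton_self f)) hne
  exact absurd (lt_of_lt_of_le h2 h1) (not_lt.2 (by exact_mod_cast hi))

/-- The first local cohomology of the lattice algebra modulo `f` is finite. -/
theorem finH_multB (hω : Dual.IsDualizing A ω) (hgood : ∀ p, IsCurve f p → Good f p c) :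
    FinH (maximalIdeal A) 1 (ColimSec.Q f (multB f c) 0) := by
  haveI := finite_multB f c
  let B := multB f c
  obtain ⟨r, g, hg⟩ := Submodule.fg_iff_exists_fin_generating_family.1 (IsNoetherian.noetherian (maximalIdeal A))
  let S : ShortComplex (ModuleCat.{u} A) :=
    ShortComplex.mk (ModuleCat.ofHom (f • LinearMap.id : B →ₗ[A] B)) (ModuleCat.ofHom (ColimSec.q f 0))
      (ModuleCat.hom_ext (LinearMap.ext fun x => (Submodule.Quotient.mk_eq_zero _).2
        (H9Lef.mem_span_pow_smul_top.2 ⟨x, by rw [zero_add, pow_one]; rfl⟩)))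
  have hS : S.ShortExact :=
    { exact := (ShortComplex.ShortExact.moduleCat_exact_iff_function_exact _).2 fun x => by
        show ColimSec.q f 0 x = 0 ↔ x ∈ Set.range fun y : B => f • y
        refine (Submodule.Quotient.mk_eq_zero _).trans (H9Lef.mem_span_pow_smul_top.trans ?_)
        rw [zero_add, pow_one]
        rfl
      mono_f := (ModuleCat.mono_iff_injective _).2 (smul_injective_alg B)
      epi_g := (ModuleCat.epi_iff_surjective _).2 (Submodule.mkQ_surjective _) }
  have hkill : ∀ l, ∃ K, ∀ z ∈ (⊤ : Submodule A (LocCoh.H (maximalIdeal A) 1 (ColimSec.Q f B 0))), g l ^ K • z = 0 := by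
    intro l
    have hgl : g l ∈ maximalIdeal A := hg ▸ Submodule.subset_span ⟨l, rfl⟩
    obtain ⟨K₁, h₁⟩ := annihilator_multB hω hgood 1 (by norm_num) hgl
    obtain ⟨K₂, h₂⟩ := annihilator_multB hω hgood 2 le_rfl hgl
    obtain ⟨u₁, hu₁, v₁, hv₁, e₁⟩ := Submodule.mem_sup.1 h₁
    obtain ⟨u₂, hu₂, v₂, hv₂, e₂⟩ := Submodule.mem_sup.1 h₂
    obtain ⟨b₁, rfl⟩ := Ideal.mem_span_singleton'.1 hv₁
    obtain ⟨b₂, rfl⟩ := Ideal.mem_span_singleton'.1 hv₂
    have hz0 : ∀ z : LocCoh.H (maximalIdeal A) 1 (ColimSec.Q f B 0), f • z = 0 := fun z =>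
      smul_H_eq_zero (fun x => by simpa using ColimSec.killed_Q (f := f) 0 x) 1 z
    refine ⟨K₁ + K₂, fun z _ => ?_⟩
    have hδ : LC.δH (maximalIdeal A) 1 hS 2 rfl (g l ^ K₂ • z) = 0 := by
      rw [← e₂, add_smul, map_add, map_smul, mul_smul, hz0, smul_zero, map_zero, add_zero]
      exact Module.mem_annihilator.1 hu₂ _
    obtain ⟨w, hw⟩ := (LC.exact₃ (maximalIdeal A) 1 hS 2 rfl _).1 hδ
    rw [pow_add (g l) K₁ K₂, mul_smul, ← hw, ← e₁, add_smul, mul_smul]
    erw [hz0 (((localCohomology (maximalIdeal A) 1).map S.g).hom w)]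
    rw [smul_zero, add_zero, ← map_smul]
    erw [Module.mem_annihilator.1 hu₁ w]
    rw [map_zero]
  obtain ⟨n, hn⟩ := exists_pow_kill_of_gens hg _ hkill
  haveI := (cofin_self (A := A)).1 (ColimSec.Q f B 0) ⊤ n hn
  exact Module.Finite.equiv Submodule.topEquiv

omit [IsLocalRing A] in
/-- Nonminimal primes of a reduced ring are not associated. -/
theorem mem_minimalPrimes_of_mem_ass [_root_.IsReduced A] {p : Ideal A} (h : p ∈ associatedPrimes A A) :
    p ∈ minimalPrimes A := by
  obtain ⟨hp, z, hz⟩ := Alg6.mem_ass_iff.1 h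
  have hz0 : z ≠ 0 := fun h0 => hp.ne_top ((Ideal.eq_top_iff_one p).2 ((hz 1).2 (by rw [h0, smul_zero])))
  obtain ⟨q, hq, hzq⟩ : ∃ q : Ideal A, q ∈ minimalPrimes A ∧ z ∉ q := by
    by_contra hne
    push Not at hne
    refine hz0 ?_
    have : z ∈ sInf ((⊥ : Ideal A).minimalPrimes) := Ideal.mem_sInf.2 fun {q} hq => hne q hq
    rw [Ideal.sInf_minimalPrimes] at this
    have h' : z ∈ nilradical A := this
    rw [nilradical_eq_zero] at h'
    exact h'
  haveI := hq.1.1
  have hpq : p ≤ q := fun a ha => (hq.1.1.mem_or_mem (show a * z ∈ q from by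
    rw [show a * z = 0 from (hz a).1 ha]; exact zero_mem q)).resolve_right hzq
  rwa [le_antisymm hpq (hq.2 ⟨hp, bot_le⟩ hpq)]

theorem star1_of_reduced [_root_.IsReduced A] (hω : Dual.IsDualizing A ω)
    (hc : ∀ p : Ideal A, p ∈ minimalPrimes A → f ∉ p → (3 : WithBot ℕ∞) ≤ ringKrullDim (A ⧸ p)) : Star1 f := by
  intro p hp hfp ⟨q₁, hq₁, hpq₁, hfq₁, hne₁⟩
  by_cases hmin : p ∈ minimalPrimes A
  · refine lt_of_lt_of_le ?_ ((hc p hmin hfp).trans (le_add_of_nonneg_left (WithBot.coe_le_coe.2 bot_le)))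
    exact WithBot.coe_lt_coe.2 (show (2 : ℕ∞) < 3 by norm_num)
  · have hd : (1 : ℕ∞) ≤ LocCoh.depth (Localization.AtPrime p) (Localization.AtPrime p) := by
      rw [← FlatLoc6.depth_self_atPrime p]
      exact (Alg6.one_le_depth_atPrime_iff p).2 fun h => hmin (mem_minimalPrimes_of_mem_ass h)
    obtain ⟨n, -, hcov, hmono, -⟩ := KFlatLib.exists_extDegree hω
    let P : PrimeSpectrum A := ⟨p, inferInstance⟩
    obtain ⟨e, he, he'⟩ := KFlatLib.ringKrullDim_quotient_eq hcov hmono P
    have he2 : 2 ≤ e := by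
      have h1 : n P < n ⟨q₁, hq₁⟩ := hmono (lt_of_le_of_ne (hpq₁ : P ≤ ⟨q₁, hq₁⟩) fun h => hfp (by
        have h' : p = q₁ := congrArg PrimeSpectrum.asIdeal h
        rw [h']; exact hfq₁))
      have h2 : n ⟨q₁, hq₁⟩ < n (IsLocalRing.closedPoint A) := hmono (lt_of_le_of_ne
        (IsLocalRing.le_maximalIdeal hq₁.ne_top : (⟨q₁, hq₁⟩ : PrimeSpectrum A) ≤ IsLocalRing.closedPoint A)
        fun h => hne₁ (congrArg PrimeSpectrum.asIdeal h))
      omega
    rw [show ringKrullDim (A ⧸ p) = (e : WithBot ℕ∞) from he]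
    calc (2 : WithBot ℕ∞) < ((3 : ℕ∞) : WithBot ℕ∞) := WithBot.coe_lt_coe.2 (show (2 : ℕ∞) < 3 by norm_num)
      _ = ((1 + 2 : ℕ∞) : WithBot ℕ∞) := by norm_num
      _ ≤ _ := by exact_mod_cast add_le_add hd (show (2 : ℕ∞) ≤ (e : ℕ∞) by exact_mod_cast he2)

omit [IsNoetherianRing A] [IsLocalRing A] in
/-- Finiteness passes along semilinear maps over a surjection of rings. -/
theorem finite_of_semilinear {D X Y : Type u} [CommRing D] (π : A →+* D) (hπ : Function.Surjective π)
    [AddCommGroup X] [Module D X] [Module.Finite D X] [AddCommGroup Y] [Module A Y] (φ : X ≃+ Y)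
    (hφ : ∀ (a : A) x, φ (π a • x) = a • φ x) : Module.Finite A Y := by
  obtain ⟨m, v, hv⟩ := Module.Finite.exists_fin (R := D) (M := X)
  refine ⟨Submodule.fg_def.2 ⟨Set.range fun i => φ (v i), Set.finite_range _, top_le_iff.1 fun z hz => ?_⟩⟩
  clear hz
  obtain ⟨y, rfl⟩ := φ.surjective z
  have hy : y ∈ Submodule.span D (Set.range v) := hv ▸ Submodule.mem_top
  induction hy using Submodule.span_induction with
  | mem y hy =>
    obtain ⟨i, rfl⟩ := hy
    exact Submodule.subset_span ⟨i, rfl⟩
  | zero => rw [map_zero]; exact zero_mem _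
  | add _ _ _ _ h h' => rw [map_add]; exact add_mem h h'
  | smul d y _ h =>
    obtain ⟨a, rfl⟩ := hπ d
    rw [hφ a y]
    exact Submodule.smul_mem _ _ h

set_option maxHeartbeats 800000 in
/-- A finite algebra, surjective off `f`, with finite first local cohomology modulo `f`. -/
theorem exists_good_algebra (hω : Dual.IsDualizing A ω) (hf : f ∈ maximalIdeal A)
    (hc : ∀ p : Ideal A, p ∈ minimalPrimes A → f ∉ p → (3 : WithBot ℕ∞) ≤ ringKrullDim (A ⧸ p)) :
    ∃ (E : Type u) (_ : CommRing E) (_ : Algebra A E), Module.Finite A E ∧ IsSMulRegular E f ∧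
      (∀ p : PrimeSpectrum A, f ∉ p.asIdeal → ∃ P, PrimeSpectrum.comap (algebraMap A E) P = p) ∧
      FinH (maximalIdeal A) 1 (ColimSec.Q f E 0) := by
  let J := nilradical A
  let D := A ⧸ J
  let π : A →+* D := Ideal.Quotient.mk J
  have hJle : ∀ p : Ideal A, p.IsPrime → J ≤ p := fun p hp => nilradical_le_prime p
  haveI : Nontrivial D := Ideal.Quotient.nontrivial_iff.2 fun h => (maximalIdeal.isMaximal A).ne_top
    (top_le_iff.1 (h ▸ hJle _ inferInstance))
  haveI : IsLocalRing D := IsLocalRing.of_surjective' π Ideal.Quotient.mk_surjective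
  haveI : _root_.IsReduced D :=
    (Ideal.isRadical_iff_quotient_reduced J).1 (Ideal.radical_isRadical _)
  obtain ⟨ωD, hωD⟩ := KFlatLib.exists_isDualizing_of_surjective π Ideal.Quotient.mk_surjective hω
  haveI : IsLocalHom π := IsLocalHom.of_surjective _ Ideal.Quotient.mk_surjective
  have hmap : (maximalIdeal A).map π = maximalIdeal D := IsLocalRing.map_maximalIdeal_of_surjective π Ideal.Quotient.mk_surjective
  have hfD : π f ∈ maximalIdeal D := hmap ▸ Ideal.mem_map_of_mem π hf
  have hcD : ∀ p : Ideal D, p ∈ minimalPrimes D → π f ∉ p → (3 : WithBot ℕ∞) ≤ ringKrullDim (D ⧸ p) := fun p hp hfp => by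
    haveI := hp.1.1
    have h1 : p.comap π ∈ minimalPrimes A := by
      refine ⟨⟨inferInstance, bot_le⟩, fun q hq hqp => ?_⟩
      haveI := hq.1
      have hq' : (q.map π).IsPrime :=
        Ideal.map_isPrime_of_surjective Ideal.Quotient.mk_surjective (by rw [Ideal.mk_ker]; exact hJle q hq.1)
      have h2 : q.map π ≤ p := Ideal.map_le_iff_le_comap.2 hqp
      intro x hx
      have h3 : π x ∈ q.map π := hp.2 ⟨hq', bot_le⟩ h2 hx
      rw [← Ideal.mem_comap, Ideal.comap_map_of_surjective' _ Ideal.Quotient.mk_surjective, Ideal.mk_ker,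
        sup_eq_left.2 (hJle q hq.1)] at h3
      exact h3
    refine (hc _ h1 hfp).trans (le_of_eq (ringKrullDim_eq_of_ringEquiv
      (RingEquiv.ofBijective (Ideal.quotientMap p π le_rfl) ⟨Ideal.quotientMap_injective,
        Ideal.quotientMap_surjective Ideal.Quotient.mk_surjective⟩)))
  obtain ⟨c, hgood⟩ := exists_good_all' hωD (star1_of_reduced hωD hcD)
  haveI := finite_multB (π f) c
  have hfin := finH_multB hωD hgood
  let E := multB (π f) c
  haveI : Module.Finite A D := Module.Finite.of_surjective (Algebra.linearMap A D) Ideal.Quotient.mk_surjective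
  haveI : Module.Finite A E := Module.Finite.trans D E
  have hsmul : ∀ {N : Type u} [AddCommGroup N] [Module A N] [Module D N] [IsScalarTower A D N] (a : A) (x : N),
      π a • x = a • x := fun a x => algebraMap_smul D a x
  refine ⟨E, inferInstance, inferInstance, inferInstance, fun x y h => smul_injective_alg E ?_, fun p hp => ?_, ?_⟩
  · show π f • x = π f • y
    rw [hsmul, hsmul]
    exact h
  · obtain ⟨pD, hpD⟩ : p ∈ Set.range (PrimeSpectrum.comap π) := by
      rw [_root_.range_comap_of_surjective _ _ Ideal.Quotient.mk_surjective, Ideal.mk_ker]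
      exact hJle _ p.2
    have hfpD : π f ∉ pD.asIdeal := fun h => hp (by rw [← hpD]; exact h)
    obtain ⟨P, hP⟩ : pD ∈ Set.range (PrimeSpectrum.comap (algebraMap D (Af (π f)))) := by
      rw [PrimeSpectrum.localization_away_comap_range (Af (π f)) (π f)]
      exact hfpD
    refine ⟨PrimeSpectrum.comap E.val.toRingHom P, ?_⟩
    rw [← hpD, ← hP]
    rfl
  · let N := ColimSec.Q (π f) E 0
    haveI : Module.Finite D (LocCoh.H (maximalIdeal D) 1 N) := hfin
    obtain ⟨φ, hφ⟩ := LC.exists_indep (R := A) (R' := D) (maximalIdeal A) 1 N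
    have hfinA : Module.Finite A ((localCohomology (maximalIdeal A) 1).obj (ModuleCat.of A N)) := by
      haveI : Module.Finite D ((localCohomology ((maximalIdeal A).map (algebraMap A D)) 1).obj (ModuleCat.of D N)) := by
        rw [show (maximalIdeal A).map (algebraMap A D) = maximalIdeal D from hmap]
        exact hfin
      exact finite_of_semilinear (algebraMap A D) Ideal.Quotient.mk_surjective φ hφ
    let e : N ≃ₗ[A] ColimSec.Q f E 0 :=
      { toFun := Quotient.map' id fun x y h => by
          rw [Submodule.quotientRel_def] at h ⊢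
          obtain ⟨w, hw⟩ := H9Lef.mem_span_pow_smul_top.1 h
          exact H9Lef.mem_span_pow_smul_top.2 ⟨w, by rw [← map_pow, hsmul] at hw; exact hw⟩
        invFun := Quotient.map' id fun x y h => by
          rw [Submodule.quotientRel_def] at h ⊢
          obtain ⟨w, hw⟩ := H9Lef.mem_span_pow_smul_top.1 h
          exact H9Lef.mem_span_pow_smul_top.2 ⟨w, by rw [← map_pow, hsmul]; exact hw⟩
        map_add' := by rintro ⟨x⟩ ⟨y⟩; rfl
        map_smul' := by rintro a ⟨x⟩; rfl
        left_inv := by rintro ⟨x⟩; rfl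
        right_inv := by rintro ⟨x⟩; rfl }
    haveI := hfinA
    exact Module.Finite.equiv ((localCohomology (maximalIdeal A) 1).mapIso e.toModuleIso).toLinearEquiv

end Groth.Agent.FEtNbhd
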