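import Groth.Agent.FEtNbhd.Clopen
import Groth.Agent.LefAlgz.CechFin
import Mathlib.AlgebraicGeometry.Pullbacks

/-!
# Clopen subsets after a finite extension

The extension of clopen subsets to neighbourhoods descends along a finite algebra surjective off `f`.
-/

noncomputable section

set_option autoImplicit false
set_option linter.style.haveILetI false
set_option backward.isDefEq.respectTransparency false
set_option backward.isDefEq.respectTransparency.types false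

universe u

open CategoryTheory CategoryTheory.Limits AlgebraicGeometry TopologicalSpace TensorProduct

namespace Groth.Agent.FEtNbhd

open Groth.Agent Groth.Agent.LefAlgz

variable {A : Type u} [CommRing A]

theorem exists_tensor_point {B E : Type u} [CommRing B] [CommRing E] [Algebra A B] [Algebra A E] (Q : PrimeSpectrum B)
    (P : PrimeSpectrum E) (h : PrimeSpectrum.comap (algebraMap A B) Q = PrimeSpectrum.comap (algebraMap A E) P) :
    ∃ Y : PrimeSpectrum (B ⊗[A] E),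
      PrimeSpectrum.comap (Algebra.TensorProduct.includeLeftRingHom : B →+* B ⊗[A] E) Y = Q := by
  obtain ⟨x, hx, -⟩ := Scheme.Pullback.exists_preimage_pullback
    (f := Spec.map (CommRingCat.ofHom (algebraMap A B))) (g := Spec.map (CommRingCat.ofHom (algebraMap A E))) Q P h
  refine ⟨(pullbackSpecIso A B E).hom.base x, ?_⟩
  rw [← pullbackSpecIso_hom_fst A B E, Scheme.Hom.comp_apply] at hx
  exact hx

variable {C : Type u} [CommRing C] [Algebra A C] {f : A}

theorem eq_sum_single {R : Type u} [AddCommGroup R] {p : ℕ} (v : Fin p → R) :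
    v = ∑ t, (Pi.single t (v t) : Fin p → R) := (Finset.univ_sum_single v).symm

variable [IsNoetherianRing A]

/-- A split module is split modulo `f`. -/
theorem quot_split' {M R₀ : Type u} [AddCommGroup M] [Module A M] [AddCommGroup R₀] [Module A R₀] {c : A}
    (h : ∃ (p k : ℕ) (a : M →ₗ[A] (Fin p → R₀)) (b : (Fin p → R₀) →ₗ[A] M), ∀ x, b (a x) = c ^ k • x) :
    ∃ (p k : ℕ) (a : ColimSec.Q f M 0 →ₗ[A] (Fin p → ColimSec.Q f R₀ 0))
      (b : (Fin p → ColimSec.Q f R₀ 0) →ₗ[A] ColimSec.Q f M 0), ∀ x, b (a x) = c ^ k • x := by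
  classical
  obtain ⟨p, k, a, b, hab⟩ := h
  let red : (Fin p → R₀) →ₗ[A] (Fin p → ColimSec.Q f R₀ 0) :=
    LinearMap.pi fun t => ColimSec.q f 0 ∘ₗ LinearMap.proj t
  let a' : ColimSec.Q f M 0 →ₗ[A] (Fin p → ColimSec.Q f R₀ 0) := Submodule.liftQ _ (red ∘ₗ a) (fun x hx => by
    obtain ⟨w, rfl⟩ := H9Lef.mem_span_pow_smul_top.1 hx
    refine LinearMap.mem_ker.2 (funext fun t => ?_)
    show ColimSec.q f 0 (a (f ^ (0 + 1) • w) t) = 0
    rw [map_smul, Pi.smul_apply, map_smul]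
    exact ColimSec.killed_Q 0 _)
  let φ : Fin p → ColimSec.Q f R₀ 0 →ₗ[A] ColimSec.Q f M 0 := fun t =>
    Submodule.liftQ _ (ColimSec.q f 0 ∘ₗ b ∘ₗ LinearMap.single A (fun _ : Fin p => R₀) t) (fun x hx => by
      obtain ⟨w, rfl⟩ := H9Lef.mem_span_pow_smul_top.1 hx
      refine LinearMap.mem_ker.2 ?_
      rw [map_smul]
      exact ColimSec.killed_Q 0 _)
  refine ⟨p, k, a', ∑ t, φ t ∘ₗ LinearMap.proj t, fun x => ?_⟩
  obtain ⟨x, rfl⟩ := Submodule.Quotient.mk_surjective _ x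
  show (∑ t, φ t ∘ₗ LinearMap.proj t) (red (a x)) = c ^ k • ColimSec.q f 0 x
  rw [LinearMap.sum_apply, ← map_smul, ← hab]
  conv_rhs => rw [eq_sum_single (a x), map_sum, map_sum]
  rfl

variable [Module.Finite A C]

set_option maxHeartbeats 1600000 in
/-- A clopen decomposition extends, given a finite algebra surjective off `f` with finite local cohomology. -/
theorem exists_clopen_nbhd_descend [IsAdicComplete (Ideal.span {f}) A] (I : Ideal A)
    {E : Type u} [CommRing E] [Algebra A E] [Module.Finite A E] (hreg : IsSMulRegular E f)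
    (hsurj : ∀ p : PrimeSpectrum A, f ∉ p.asIdeal → ∃ P, PrimeSpectrum.comap (algebraMap A E) P = p)
    {r : ℕ} (g : Fin r → A) (hg : Ideal.span (Set.range g) = I) (hfin : FinH I 1 (ColimSec.Q f E 0))
    (hsplit : ∀ l, g l = f ∨ ∃ (p k : ℕ) (a : C →ₗ[A] (Fin p → A)) (b : (Fin p → A) →ₗ[A] C),
      ∀ x, b (a x) = g l ^ k • x)
    {F₁ F₂ : Set (PrimeSpectrum C)} (h₁ : IsClosed F₁) (h₂ : IsClosed F₂)
    (hF : ∀ Q : PrimeSpectrum C, algebraMap A C f ∈ Q.asIdeal → ¬ I ≤ Q.asIdeal.comap (algebraMap A C) →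
      (Q ∈ F₁ ↔ Q ∉ F₂)) :
    ∃ (W : Opens (PrimeSpectrum A)) (G G' : Set (PrimeSpectrum C)), IsOpen G ∧ IsOpen G' ∧
      (∀ p : PrimeSpectrum A, ¬ I ≤ p.asIdeal → f ∈ p.asIdeal → p ∈ W) ∧
      (∀ Q : PrimeSpectrum C, PrimeSpectrum.comap (algebraMap A C) Q ∈ W → (Q ∈ G ↔ Q ∉ G')) ∧
      ∀ Q : PrimeSpectrum C, algebraMap A C f ∈ Q.asIdeal → ¬ I ≤ Q.asIdeal.comap (algebraMap A C) →
        (Q ∈ G ↔ Q ∈ F₁) := by
  classical
  let M := C ⊗[A] E
  let T : Ideal M :=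
    { carrier := {x | ∃ n : ℕ, f ^ n • x = 0}
      zero_mem' := ⟨0, smul_zero _⟩
      add_mem' := by
        rintro x y ⟨n, hn⟩ ⟨m, hm⟩
        refine ⟨n + m, ?_⟩
        rw [smul_add, pow_add, mul_smul, mul_smul, smul_comm (f ^ n) (f ^ m) x, hn, hm, smul_zero, smul_zero, add_zero]
      smul_mem' := by
        rintro c x ⟨n, hn⟩
        exact ⟨n, by rw [smul_eq_mul, ← mul_smul_comm, hn, mul_zero]⟩ }
  let C' := M ⧸ T
  let π : M →ₐ[A] C' := Ideal.Quotient.mkₐ A T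
  have hreg' : IsSMulRegular C' f := by
    refine IsSMulRegular.of_right_eq_zero_of_smul fun z hz => ?_
    obtain ⟨x, rfl⟩ := Ideal.Quotient.mk_surjective z
    rw [show f • Ideal.Quotient.mk T x = Ideal.Quotient.mk T (f • x) from (map_smul π f x).symm,
      Ideal.Quotient.eq_zero_iff_mem] at hz
    obtain ⟨n, hn⟩ := hz
    exact Ideal.Quotient.eq_zero_iff_mem.2 ⟨n + 1, by rw [pow_succ, mul_smul]; exact hn⟩
  haveI : Module.Finite A M := inferInstance
  haveI : Module.Finite A C' := Module.Finite.of_surjective π.toLinearMap Ideal.Quotient.mk_surjective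
  have hfin' : FinH I 1 (ColimSec.Q f C' 0) := by
    refine Split.finH_one (g := g) hg (R₀ := ColimSec.Q f E 0) hfin fun l => ?_
    rcases hsplit l with hl | ⟨p, k, a, b, hab⟩
    · refine ⟨0, 1, 0, 0, fun x => ?_⟩
      simp only [LinearMap.zero_apply]
      rw [hl]
      exact (ColimSec.killed_Q 0 x).symm
    · refine quot_split' (f := f) ?_
      let e : (Fin p → A) ⊗[A] E ≃ₗ[A] (Fin p → E) :=
        (TensorProduct.comm A (Fin p → A) E).trans (TensorProduct.piScalarRight A A E (Fin p))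
      let a₁ : M →ₗ[A] (Fin p → E) := e.toLinearMap ∘ₗ TensorProduct.map a LinearMap.id
      let b₁ : (Fin p → E) →ₗ[A] C' := π.toLinearMap ∘ₗ TensorProduct.map b LinearMap.id ∘ₗ e.symm.toLinearMap
      let a₂ : C' →ₗ[A] (Fin p → E) := (T.restrictScalars A).liftQ a₁ (fun x hx => by
        obtain ⟨n, hn⟩ := hx
        refine LinearMap.mem_ker.2 (funext fun t => (hreg.pow n) ?_)
        have h := congrFun (congrArg a₁ hn) t
        rw [map_smul, map_zero, Pi.smul_apply, Pi.zero_apply] at h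
        show f ^ n • a₁ x t = f ^ n • (0 : E)
        rw [h, smul_zero])
      refine ⟨p, k, a₂, b₁, fun x => ?_⟩
      obtain ⟨x, rfl⟩ := Ideal.Quotient.mk_surjective x
      show π (TensorProduct.map b LinearMap.id (e.symm (e (TensorProduct.map a LinearMap.id x)))) = g l ^ k • π x
      rw [LinearEquiv.symm_apply_apply, ← map_smul π]
      congr 1
      induction x using TensorProduct.induction_on with
      | zero => rw [map_zero, map_zero, smul_zero]
      | tmul c e' => rw [TensorProduct.map_tmul, TensorProduct.map_tmul, hab, LinearMap.id_apply, LinearMap.id_apply,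
          TensorProduct.smul_tmul']
      | add x y hx hy => rw [map_add, map_add, hx, hy, smul_add]
  let ι : C →+* C' := π.toRingHom.comp Algebra.TensorProduct.includeLeftRingHom
  let h : PrimeSpectrum C' → PrimeSpectrum C := PrimeSpectrum.comap ι
  have hιA : ∀ a, ι (algebraMap A C a) = algebraMap A C' a := fun a => π.commutes a
  have hcl : IsClosedMap h := by
    refine PrimeSpectrum.isClosedMap_comap_of_isIntegral _ (RingHom.IsIntegral.tower_top (algebraMap A C) ι ?_)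
    rw [show ι.comp (algebraMap A C) = algebraMap A C' from RingHom.ext hιA]
    exact algebraMap_isIntegral_iff.2 inferInstance
  have hcomp : ∀ Q' : PrimeSpectrum C', PrimeSpectrum.comap (algebraMap A C) (h Q') =
      PrimeSpectrum.comap (algebraMap A C') Q' := fun Q' => PrimeSpectrum.ext (Ideal.ext fun a => by
    show ι (algebraMap A C a) ∈ Q'.asIdeal ↔ algebraMap A C' a ∈ Q'.asIdeal
    rw [hιA])
  have hfmem : ∀ Q' : PrimeSpectrum C', algebraMap A C f ∈ (h Q').asIdeal ↔ algebraMap A C' f ∈ Q'.asIdeal :=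
    fun Q' => by
      show ι (algebraMap A C f) ∈ Q'.asIdeal ↔ _
      rw [hιA]
  have hImem : ∀ Q' : PrimeSpectrum C', (h Q').asIdeal.comap (algebraMap A C) = Q'.asIdeal.comap (algebraMap A C') :=
    fun Q' => congrArg PrimeSpectrum.asIdeal (hcomp Q')
  have hlift : ∀ Q : PrimeSpectrum C, algebraMap A C f ∉ Q.asIdeal → ∃ Q' : PrimeSpectrum C', h Q' = Q := fun Q hfQ => by
    obtain ⟨P, hP⟩ := hsurj (PrimeSpectrum.comap (algebraMap A C) Q) hfQ
    obtain ⟨Y, hY⟩ := exists_tensor_point Q P hP.symm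
    have hT : T ≤ Y.asIdeal := fun x ⟨n, hn⟩ => by
      have h0 : algebraMap A M (f ^ n) * x ∈ Y.asIdeal := by
        rw [← Algebra.smul_def, hn]
        exact zero_mem _
      refine (Y.2.mem_or_mem h0).resolve_left fun hm => hfQ ?_
      rw [map_pow] at hm
      rw [← hY]
      exact Y.2.mem_of_pow_mem _ hm
    obtain ⟨Q', hQ'⟩ : Y ∈ Set.range (PrimeSpectrum.comap (Ideal.Quotient.mk T)) := by
      rw [_root_.range_comap_of_surjective _ _ Ideal.Quotient.mk_surjective, Ideal.mk_ker]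
      exact hT
    refine ⟨Q', ?_⟩
    rw [← hY, ← hQ']
    rfl
  obtain ⟨W, G, G', hG, hG', hW, hGG', hGF⟩ := exists_clopen_nbhd hreg' I hfin'
    (F₁ := h ⁻¹' F₁) (F₂ := h ⁻¹' F₂) (h₁.preimage (PrimeSpectrum.continuous_comap _))
    (h₂.preimage (PrimeSpectrum.continuous_comap _)) fun Q' hfQ' hIQ' =>
      hF (h Q') ((hfmem Q').2 hfQ') (by rw [hImem]; exact hIQ')
  let Vf : Set (PrimeSpectrum C) := PrimeSpectrum.zeroLocus {algebraMap A C f}
  have hVf : ∀ Q, Q ∈ Vf ↔ algebraMap A C f ∈ Q.asIdeal := fun Q => by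
    rw [PrimeSpectrum.mem_zeroLocus, Set.singleton_subset_iff]
    rfl
  let K₁ : Set (PrimeSpectrum C) := h '' G'ᶜ ∪ (F₁ ∩ Vf)
  let K₂ : Set (PrimeSpectrum C) := h '' Gᶜ ∪ (F₂ ∩ Vf)
  have hK₁ : IsClosed K₁ := (hcl _ hG'.isClosed_compl).union (h₁.inter (PrimeSpectrum.isClosed_zeroLocus _))
  have hK₂ : IsClosed K₂ := (hcl _ hG.isClosed_compl).union (h₂.inter (PrimeSpectrum.isClosed_zeroLocus _))
  let Z : Set (PrimeSpectrum A) := PrimeSpectrum.comap (algebraMap A C) '' (K₁ ∩ K₂)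
  have hZ : IsClosed Z := PrimeSpectrum.isClosedMap_comap_of_isIntegral _
    (algebraMap_isIntegral_iff.2 inferInstance) _ (hK₁.inter hK₂)
  have hno : IsClosed (PrimeSpectrum.zeroLocus (I : Set A)) := PrimeSpectrum.isClosed_zeroLocus _
  let W' : Opens (PrimeSpectrum A) := ⟨(W : Set (PrimeSpectrum A)) ∩ Zᶜ ∩ (PrimeSpectrum.zeroLocus (I : Set A))ᶜ,
    (W.2.inter hZ.isOpen_compl).inter hno.isOpen_compl⟩
  -- the parts on the hypersurface
  have hK : ∀ Q : PrimeSpectrum C, algebraMap A C f ∈ Q.asIdeal → ¬ I ≤ Q.asIdeal.comap (algebraMap A C) →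
      (Q ∈ K₁ ↔ Q ∈ F₁) ∧ (Q ∈ K₂ ↔ Q ∈ F₂) := fun Q hfQ hIQ => by
    have key : ∀ Q', h Q' = Q → (Q' ∈ G ↔ Q ∈ F₁) ∧ (Q' ∈ G ↔ Q' ∉ G') := fun Q' e => by
      subst e
      have hI' : ¬ I ≤ Q'.asIdeal.comap (algebraMap A C') := by rw [← hImem]; exact hIQ
      have hWQ := hW (PrimeSpectrum.comap (algebraMap A C') Q') hI' ((hfmem Q').1 hfQ)
      exact ⟨hGF Q' ((hfmem Q').1 hfQ) hI', hGG' Q' hWQ⟩
    refine ⟨⟨?_, fun h' => Or.inr ⟨h', (hVf Q).2 hfQ⟩⟩, ⟨?_, fun h' => Or.inr ⟨h', (hVf Q).2 hfQ⟩⟩⟩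
    · rintro (⟨Q', hQ', e⟩ | hh)
      · exact (key Q' e).1.1 ((key Q' e).2.2 hQ')
      · exact hh.1
    · rintro (⟨Q', hQ', e⟩ | hh)
      · exact not_not.1 fun hn => hQ' ((key Q' e).1.2 ((hF Q hfQ hIQ).2 hn))
      · exact hh.1
  refine ⟨W', K₂ᶜ, K₁ᶜ, hK₂.isOpen_compl, hK₁.isOpen_compl, fun p hIp hfp => ⟨⟨hW p hIp hfp, ?_⟩, hIp⟩,
    fun Q hQ => ?_, fun Q hfQ hIQ => ?_⟩
  · rintro ⟨Q, hQ, rfl⟩
    have := hK Q hfp hIp
    exact (hF Q hfp hIp).1 (this.1.1 hQ.1) (this.2.1 hQ.2)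
  · have hIQ : ¬ I ≤ Q.asIdeal.comap (algebraMap A C) := hQ.2
    constructor
    · intro hQ2 hQ1
      by_cases hfQ : algebraMap A C f ∈ Q.asIdeal
      · have := hK Q hfQ hIQ
        exact hQ1 (this.1.2 ((hF Q hfQ hIQ).2 fun h' => hQ2 (this.2.2 h')))
      · obtain ⟨Q', rfl⟩ := hlift Q hfQ
        have hQ' := hQ.1.1
        rw [hcomp] at hQ'
        by_cases hG'' : Q' ∈ G
        · exact hQ1 (Or.inl ⟨Q', (hGG' Q' hQ').1 hG'', rfl⟩)
        · exact hQ2 (Or.inl ⟨Q', hG'', rfl⟩)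
    · intro hQ1 hQ2
      exact hQ.1.2 ⟨Q, ⟨not_not.1 hQ1, hQ2⟩, rfl⟩
  · have := hK Q hfQ hIQ
    rw [Set.mem_compl_iff, this.2]
    exact (hF Q hfQ hIQ).symm

end Groth.Agent.FEtNbhd
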