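import Groth.Agent.Pi1Ext.PuritySch
import Groth.Agent.LefAlgz.CechFin
import Mathlib.RingTheory.Flat.EquationalCriterion

/-!
# A finite algebra model of a finite étale cover of an open of an affine scheme

The cover is, topologically, the part of the spectrum of a finite algebra over the open; that algebra is split
on the open and `f` is a nonzerodivisor on it.
-/

noncomputable section

set_option autoImplicit false
set_option linter.style.haveILetI false
set_option backward.isDefEq.respectTransparency false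
set_option backward.isDefEq.respectTransparency.types false

universe u

open CategoryTheory CategoryTheory.Limits AlgebraicGeometry TensorProduct TopologicalSpace Topology

namespace Groth.Agent.FEtNbhd

open Groth.Agent Groth.Agent.Pi1Ext.PuritySch Groth.Agent.Pi1Ext.RegPurity

variable {A : Type u} [CommRing A]

theorem smul_regular_of_flat {X : Scheme.{u}} (j : X ⟶ Spec (CommRingCat.of A)) [Flat j] {f : A}
    (hf : f ∈ nonZeroDivisors A) {z : Γ(X, ⊤)}
    (h : ((Scheme.ΓSpecIso (CommRingCat.of A)).inv ≫ j.appTop) f * z = 0) : z = 0 := by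
  refine X.sheaf.eq_of_locally_eq' (fun W : X.affineOpens => W.1) ⊤ (fun W => homOfLE le_top)
    (fun x _ => by
      obtain ⟨_, ⟨W, hW, rfl⟩, hxW, -⟩ := X.isBasis_affineOpens.exists_subset_of_mem_open (Set.mem_univ x) isOpen_univ
      exact Opens.mem_iSup.2 ⟨⟨W, hW⟩, hxW⟩) _ _ fun W => ?_
  show X.presheaf.map _ z = X.presheaf.map _ 0
  rw [map_zero]
  have hfl : (j.appLE ⊤ W.1 le_top).hom.Flat := j.flat_appLE (isAffineOpen_top _) W.2 _
  let φ : A →+* Γ(X, W.1) := (j.appLE ⊤ W.1 le_top).hom.comp (Scheme.ΓSpecIso (CommRingCat.of A)).inv.hom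
  have hφ : φ.Flat := RingHom.Flat.comp
    (RingHom.Flat.of_bijective (ConcreteCategory.bijective_of_isIso (Scheme.ΓSpecIso (CommRingCat.of A)).inv)) hfl
  letI := φ.toAlgebra
  haveI : Module.Flat A Γ(X, W.1) := hφ
  have hreg : IsSMulRegular Γ(X, W.1) f :=
    Module.Flat.isSMulRegular_of_isRegular (isRegular_iff_mem_nonZeroDivisors.2 hf)
  refine hreg ?_
  show f • _ = f • (0 : Γ(X, W.1))
  rw [smul_zero, Algebra.smul_def]
  have e := congrArg (X.presheaf.map (homOfLE (le_top : W.1 ≤ ⊤)).op) h
  rw [map_mul, map_zero] at e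
  exact e

variable [IsNoetherianRing A]

theorem isLocalizedModule_lTensor_comp {R : Type u} [CommRing R] [Algebra A R] {g : A} (Cs : Subalgebra A R)
    (hiso : IsoAway Cs.val g) :
    IsLocalizedModule (Submonoid.powers g) ((TensorProduct.mk A (Localization.Away g) R 1) ∘ₗ Cs.val.toLinearMap) := by
  let mkR := TensorProduct.mk A (Localization.Away g) R 1
  haveI : IsLocalizedModule (Submonoid.powers g) mkR :=
    (isLocalizedModule_iff_isBaseChange (Submonoid.powers g) (Localization.Away g) _).2
      (TensorProduct.isBaseChange A R (Localization.Away g))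
  refine ⟨fun x => IsLocalizedModule.map_units mkR x, fun y => ?_, fun {x₁ x₂} h => ?_⟩
  · obtain ⟨⟨r, ⟨_, l, rfl⟩⟩, hr⟩ := IsLocalizedModule.surj (Submonoid.powers g) mkR y
    obtain ⟨K, c, hc⟩ := hiso.1 r
    refine ⟨(c, ⟨g ^ (K + l), K + l, rfl⟩), ?_⟩
    show g ^ (K + l) • y = mkR (Cs.val c)
    rw [pow_add, mul_smul, show g ^ l • y = mkR r from hr, ← map_smul]
    exact congrArg mkR hc
  · obtain ⟨⟨_, K, rfl⟩, hK⟩ := (IsLocalizedModule.eq_iff_exists (Submonoid.powers g) mkR).1 h
    exact ⟨⟨g ^ K, K, rfl⟩, Subtype.ext hK⟩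

variable (U : (Spec (CommRingCat.of A)).Opens)

set_option maxHeartbeats 1600000 in
/-- A finite algebra model of a finite étale cover of an open. -/
theorem exists_model (V : FEt.Cat (U : Scheme.{u})) :
    ∃ (C : Type u) (_ : CommRing C) (_ : Algebra A C), Module.Finite A C ∧
      (∀ f : A, f ∈ nonZeroDivisors A → IsSMulRegular C f) ∧
      (∀ g : A, (∀ p : PrimeSpectrum A, g ∉ p.asIdeal → p ∈ (U.1 : Set (PrimeSpectrum A))) →
        ∃ (p k : ℕ) (a : C →ₗ[A] (Fin p → A)) (b : (Fin p → A) →ₗ[A] C), ∀ x, b (a x) = g ^ k • x) ∧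
      ∃ Φ : V.left → PrimeSpectrum C, IsEmbedding Φ ∧
        (∀ x, PrimeSpectrum.comap (algebraMap A C) (Φ x) = U.ι.base (V.hom.base x)) ∧
        Set.range Φ = PrimeSpectrum.comap (algebraMap A C) ⁻¹' (U.1 : Set (PrimeSpectrum A)) := by
  classical
  let v : V.left ⟶ (U : Scheme.{u}) := V.hom
  haveI : IsFinite v := V.prop.1
  haveI : Etale v := V.prop.2
  haveI : CompactSpace (U : Scheme.{u}) := isCompact_iff_compactSpace.1 (NoetherianSpace.isCompact _)
  haveI : CompactSpace V.left := QuasiCompact.compactSpace_of_compactSpace v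
  let j : V.left ⟶ Spec (CommRingCat.of A) := v ≫ U.ι
  haveI : QuasiCompact j := inferInstance
  haveI : QuasiSeparated j := inferInstance
  haveI : IsSeparated j := inferInstance
  haveI : LocallyOfFiniteType j := inferInstance
  haveI : LocallyQuasiFinite j := inferInstance
  haveI : IsAffine j.normalization := isAffine_of_isAffineHom j.fromNormalization
  let R := Γ(j.normalization, ⊤)
  let φ := (Scheme.ΓSpecIso (CommRingCat.of A)).inv ≫ j.fromNormalization.appTop
  letI : Algebra A R := φ.hom.toAlgebra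
  let t : V.left ⟶ Spec (CommRingCat.of R) := j.toNormalization ≫ j.normalization.isoSpec.hom
  have hπ : j.normalization.isoSpec.hom ≫ sp A R = j.fromNormalization := by
    show j.normalization.isoSpec.hom ≫ Spec.map φ = _
    rw [Spec.map_comp, ← Category.assoc, Scheme.isoSpec_hom_naturality, Category.assoc]
    simp [Scheme.isoSpec, toSpecΓ_SpecMap_ΓSpecIso_inv]
  haveI : Algebra.IsIntegral A R := by
    have h1 : IsIntegralHom (sp A R) := by
      rw [← MorphismProperty.cancel_left_of_respectsIso (P := @IsIntegralHom) j.normalization.isoSpec.hom, hπ]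
      infer_instance
    exact algebraMap_isIntegral_iff.1 (IsIntegralHom.SpecMap_iff.1 h1)
  have ht : t ≫ sp A R = j := by
    rw [Category.assoc, hπ, Scheme.Hom.toNormalization_fromNormalization]
  haveI : IsDominant t := inferInstance
  haveI : IsOpenImmersion t := inferInstance
  let q : V.left ⟶ pullback (sp A R) U.ι := pullback.lift t v ht
  have hq1 : q ≫ pullback.fst _ _ = t := pullback.lift_fst _ _ _
  have hq2 : q ≫ pullback.snd (sp A R) U.ι = v := pullback.lift_snd _ _ _
  haveI : IsFinite q := by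
    haveI : IsFinite (q ≫ pullback.snd (sp A R) U.ι) := by rw [hq2]; infer_instance
    exact IsFinite.of_comp q (pullback.snd (sp A R) U.ι)
  haveI : IsOpenImmersion q := by
    haveI : IsOpenImmersion (q ≫ pullback.fst _ _) := by rw [hq1]; infer_instance
    exact IsOpenImmersion.of_comp q (pullback.fst _ _)
  haveI : Surjective q := by
    refine ⟨fun y => ?_⟩
    by_contra hne
    have hopen := (pullback.fst (sp A R) U.ι).isOpenMap _ q.isClosedMap.isClosed_range.isOpen_compl
    obtain ⟨z, ⟨w, hw, rfl⟩, x, hx⟩ := t.denseRange.inter_open_nonempty _ hopen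
      ⟨_, y, fun ⟨a, ha⟩ => hne ⟨a, ha⟩, rfl⟩
    refine hw ⟨x, (pullback.fst (sp A R) U.ι).isOpenEmbedding.injective ?_⟩
    rw [← Scheme.Hom.comp_apply, hq1]
    exact hx
  haveI : IsIso q := (isIso_iff_isOpenImmersion_and_surjective q).2 ⟨inferInstance, inferInstance⟩
  -- the functions on the model inject
  have hinj : Function.Injective j.toNormalization.appTop := by
    letI := (j.app ⊤).hom.toAlgebra
    have e := j.normalizationObjIso_hom_val (isAffineOpen_top _)
    have hle : (⊤ : V.left.Opens) ≤ j.toNormalization ⁻¹ᵁ (j.fromNormalization ⁻¹ᵁ ⊤) := le_top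
    intro x y hxy
    refine (ConcreteCategory.bijective_of_isIso (j.normalizationObjIso (isAffineOpen_top _)).hom).1
      (Subtype.val_injective ?_)
    have ex := ConcreteCategory.congr_hom e x
    have ey := ConcreteCategory.congr_hom e y
    refine ex.trans (Eq.trans ?_ ey.symm)
    rw [Scheme.Hom.appLE, ConcreteCategory.comp_apply, ConcreteCategory.comp_apply]
    exact congrArg _ hxy
  haveI : Flat j := inferInstance
  have hregR : ∀ f : A, f ∈ nonZeroDivisors A → IsSMulRegular R f := fun f hf => by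
    refine IsSMulRegular.of_right_eq_zero_of_smul fun r hr => hinj ?_
    rw [map_zero]
    refine smul_regular_of_flat j hf ?_
    have e : (Scheme.ΓSpecIso (CommRingCat.of A)).inv ≫ j.appTop = φ ≫ j.toNormalization.appTop := by
      simp only [φ, Category.assoc, ← Scheme.Hom.comp_appTop, Scheme.Hom.toNormalization_fromNormalization]
    rw [e, ConcreteCategory.comp_apply, ← map_mul]
    rw [show φ f * r = f • r from (Algebra.smul_def f r).symm, hr, map_zero]
  -- the opens of the base inside `U`
  let Good : A → Prop := fun g => ∀ p : PrimeSpectrum A, g ∉ p.asIdeal → p ∈ (U.1 : Set (PrimeSpectrum A))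
  have hloc : ∀ g, Good g → Module.Finite (Localization.Away g) (Localization.Away g ⊗[A] R) ∧
      Algebra.Etale (Localization.Away g) (Localization.Away g ⊗[A] R) := fun g hg => by
    let Ag := Localization.Away g
    have hr : Set.range (sp A Ag).base ⊆ Set.range U.ι.base := by
      rw [Scheme.Opens.range_ι]
      rintro _ ⟨x, rfl⟩
      exact hg _ fun h => x.2.ne_top (Ideal.eq_top_of_isUnit_mem _ h (IsLocalization.Away.algebraMap_isUnit g))
    let ρg := IsOpenImmersion.lift U.ι (sp A Ag) hr
    have e1 : IsPullback (pullback.fst (pullback.snd (sp A R) U.ι) ρg ≫ pullback.fst (sp A R) U.ι)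
        (pullback.snd (pullback.snd (sp A R) U.ι) ρg) (sp A R) (sp A Ag) := by
      have := (IsPullback.of_hasPullback (pullback.snd (sp A R) U.ι) ρg).paste_horiz
        (IsPullback.of_hasPullback (sp A R) U.ι)
      rwa [IsOpenImmersion.lift_fac] at this
    have hsnd : FEt.prop (pullback.snd (sp A R) U.ι) := by
      rw [← MorphismProperty.cancel_left_of_respectsIso (P := FEt.prop) q, hq2]
      exact V.prop
    have h := MorphismProperty.pullback_snd (P := FEt.prop) (pullback.snd (sp A R) U.ι) ρg hsnd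
    rw [← e1.flip.isoPullback_hom_fst, ← pullbackSpecIso_hom_fst' A Ag R,
      MorphismProperty.cancel_left_of_respectsIso (P := FEt.prop),
      MorphismProperty.cancel_left_of_respectsIso (P := FEt.prop)] at h
    exact fet_sp_iff.1 h
  -- generators of the open
  let G₀ : Ideal A := Ideal.span {g | Good g}
  obtain ⟨G, hG⟩ := (Submodule.fg_span_iff_fg_span_finset_subset _).1 (IsNoetherian.noetherian G₀)
  have hsel : ∀ g ∈ G, ∃ s : Finset R, ∀ C : Subalgebra A R, ↑s ⊆ (C : Set R) →
      ∀ r : R, ∃ n : ℕ, g ^ n • r ∈ C := fun g hgG => by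
    let Ag := Localization.Away g
    haveI := (hloc g (hG.1 hgG)).1
    have htop : Submodule.span Ag (Set.range fun r : R => (1 : Ag) ⊗ₜ[A] r) = ⊤ := by
      refine top_le_iff.1 fun z _ => ?_
      induction z using TensorProduct.induction_on with
      | zero => exact zero_mem _
      | tmul a r =>
        rw [show (a ⊗ₜ[A] r : Ag ⊗[A] R) = a • ((1 : Ag) ⊗ₜ[A] r) by simp [TensorProduct.smul_tmul']]
        exact Submodule.smul_mem _ _ (Submodule.subset_span ⟨r, rfl⟩)
      | add x y hx hy => exact add_mem (hx trivial) (hy trivial)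
    obtain ⟨s', hs', hspan⟩ := (Submodule.fg_span_iff_fg_span_finset_subset _).1
      (htop ▸ (Module.Finite.fg_top : (⊤ : Submodule Ag (Ag ⊗[A] R)).FG))
    choose r hr using fun z : s' => hs' z.2
    refine ⟨Finset.univ.image r, fun C hC x => ?_⟩
    haveI : IsLocalizedModule (Submonoid.powers g) (TensorProduct.mk A Ag R 1) :=
      (isLocalizedModule_iff_isBaseChange (Submonoid.powers g) Ag _).2 (TensorProduct.isBaseChange A R Ag)
    suffices hz : ∀ z ∈ Submodule.span Ag (s' : Set (Ag ⊗[A] R)),
        ∃ (n : ℕ) (c : R), c ∈ C ∧ g ^ n • z = (1 : Ag) ⊗ₜ[A] c by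
      obtain ⟨n, c, hc, he⟩ := hz ((1 : Ag) ⊗ₜ[A] x) (hspan ▸ htop.ge trivial)
      rw [← TensorProduct.tmul_smul] at he
      obtain ⟨⟨_, m, rfl⟩, hm⟩ := (IsLocalizedModule.eq_iff_exists (Submonoid.powers g) (TensorProduct.mk A Ag R 1)).1 he
      refine ⟨m + n, ?_⟩
      rw [pow_add, mul_smul]
      exact hm ▸ C.smul_mem hc _
    intro z hz
    induction hz using Submodule.span_induction with
    | mem z hz =>
      refine ⟨0, r ⟨z, hz⟩, hC (Finset.mem_coe.2 (Finset.mem_image_of_mem r (Finset.mem_univ _))), ?_⟩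
      rw [pow_zero, one_smul]
      exact (hr ⟨z, hz⟩).symm
    | zero => exact ⟨0, 0, C.zero_mem, by simp⟩
    | add z z' _ _ hz hz' =>
      obtain ⟨n, c, hc, he⟩ := hz
      obtain ⟨n', c', hc', he'⟩ := hz'
      refine ⟨n + n', g ^ n' • c + g ^ n • c', C.add_mem (C.smul_mem hc _) (C.smul_mem hc' _), ?_⟩
      rw [TensorProduct.tmul_add, TensorProduct.tmul_smul, TensorProduct.tmul_smul, ← he, ← he', smul_smul,
        smul_smul, smul_add, pow_add, mul_comm (g ^ n) (g ^ n')]
    | smul a z _ hz =>
      obtain ⟨n, c, hc, he⟩ := hz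
      obtain ⟨a₀, ⟨_, m, rfl⟩, rfl⟩ := IsLocalization.exists_mk'_eq (Submonoid.powers g) a
      refine ⟨m + n, a₀ • c, C.smul_mem hc _, ?_⟩
      rw [TensorProduct.tmul_smul, ← he, pow_add, mul_smul, smul_comm (g ^ n), ← smul_assoc, Algebra.smul_def]
      exact (congrArg (· • (g ^ n • z)) (IsLocalization.mk'_spec' Ag a₀ (⟨g ^ m, m, rfl⟩ : Submonoid.powers g))).trans
        (algebraMap_smul Ag a₀ _)
  choose s hs using hsel
  let S : Finset R := G.attach.biUnion fun g => s g.1 g.2
  let C : Subalgebra A R := Algebra.adjoin A (S : Set R)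
  haveI : Module.Finite A C :=
    Module.Finite.iff_fg.2 (fg_adjoin_of_finite S.finite_toSet fun x _ => Algebra.IsIntegral.isIntegral x)
  have hiso : ∀ g, Good g → IsoAway C.val g := fun g hg =>
    ⟨fun r => by
      have hall : ∀ g₀ ∈ G, ∃ n : ℕ, g₀ ^ n • r ∈ C := fun g₀ h₀ => hs g₀ h₀ C
        ((Finset.coe_subset.2 (Finset.subset_biUnion_of_mem (fun g : {x // x ∈ G} => s g.1 g.2)
          (Finset.mem_attach G ⟨g₀, h₀⟩))).trans Algebra.subset_adjoin) r
      let J : Ideal A := (Subalgebra.toSubmodule C).comap (LinearMap.toSpanSingleton A R r)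
      have : g ∈ J.radical := by
        have hle : G₀ ≤ J.radical := by
          refine hG.2.le.trans (Ideal.span_le.2 fun g₀ h₀ => ?_)
          obtain ⟨n, hn⟩ := hall g₀ h₀
          exact ⟨n, hn⟩
        exact hle (Ideal.subset_span hg)
      obtain ⟨n, hn⟩ := this
      exact ⟨n, ⟨_, hn⟩, rfl⟩,
    fun c hc => ⟨0, by rw [pow_zero, one_smul]; exact Subtype.ext hc⟩⟩
  have hbasic : ∀ p : PrimeSpectrum A, p ∈ (U.1 : Set (PrimeSpectrum A)) → ∃ g, Good g ∧ g ∉ p.asIdeal := fun p hp => by
    obtain ⟨_, ⟨g, rfl⟩, hpg, hle⟩ :=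
      PrimeSpectrum.isTopologicalBasis_basic_opens.exists_subset_of_mem_open hp U.2
    exact ⟨g, fun x hx => hle hx, hpg⟩
  -- the comparison of spectra
  let h : PrimeSpectrum R → PrimeSpectrum C := PrimeSpectrum.comap (algebraMap C R)
  haveI : Algebra.IsIntegral C R := Algebra.IsIntegral.tower_top A
  have hcl : IsClosedMap h :=
    PrimeSpectrum.isClosedMap_comap_of_isIntegral _ (algebraMap_isIntegral_iff.2 inferInstance)
  have hcomp : ∀ P, PrimeSpectrum.comap (algebraMap A C) (h P) = PrimeSpectrum.comap (algebraMap A R) P := fun P => rfl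
  have hrange : Set.range t.base = PrimeSpectrum.comap (algebraMap A R) ⁻¹' (U.1 : Set (PrimeSpectrum A)) := by
    rw [← hq1, Scheme.Hom.comp_base, TopCat.coe_comp, Set.range_comp, q.surjective.range_eq, Set.image_univ,
      Scheme.Pullback.range_fst, Scheme.Opens.range_ι]
    rfl
  let Y : Set (PrimeSpectrum C) := PrimeSpectrum.comap (algebraMap A C) ⁻¹' (U.1 : Set (PrimeSpectrum A))
  have hbij : Function.Bijective (Y.restrictPreimage h) := by
    constructor
    · rintro ⟨P, hP⟩ ⟨P', hP'⟩ e
      have e' : h P = h P' := congrArg Subtype.val e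
      refine Subtype.ext (PrimeSpectrum.ext (Ideal.ext fun r => ?_))
      obtain ⟨g, hg, hgP⟩ := hbasic _ hP
      have hgP' : g ∉ (PrimeSpectrum.comap (algebraMap A R) P').asIdeal := by
        rw [← hcomp, ← e']
        exact hgP
      obtain ⟨n, c, hc⟩ := (hiso g hg).1 r
      have key : ∀ Q : PrimeSpectrum R, algebraMap A R g ∉ Q.asIdeal → (r ∈ Q.asIdeal ↔ c ∈ (h Q).asIdeal) := by
        intro Q hQ
        show _ ↔ algebraMap C R c ∈ Q.asIdeal
        rw [show algebraMap C R c = g ^ n • r from hc.symm, Algebra.smul_def, map_pow]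
        exact ⟨fun h => Q.asIdeal.mul_mem_left _ h,
          fun h => (Q.2.mem_or_mem h).resolve_left fun h => hQ (Q.2.mem_of_pow_mem _ h)⟩
      rw [key P hgP, key P' hgP', e']
    · rintro ⟨Q, hQ⟩
      obtain ⟨P, hP⟩ := RingHom.IsIntegral.comap_surjective (algebraMap_isIntegral_iff.2 ‹Algebra.IsIntegral C R›)
        Subtype.val_injective Q
      exact ⟨⟨P, show h P ∈ Y from (congrArg (· ∈ Y) hP).mpr hQ⟩, Subtype.ext hP⟩
  have hembY : IsEmbedding (Y.restrictPreimage h) :=
    (IsClosedEmbedding.of_continuous_injective_isClosedMap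
      ((PrimeSpectrum.continuous_comap _).restrictPreimage) hbij.1 (hcl.restrictPreimage Y)).isEmbedding
  refine ⟨C, inferInstance, inferInstance, inferInstance, fun f hf x y hxy => Subtype.ext (hregR f hf ?_), fun g hg => ?_,
    fun x => h (t.base x), ?_, fun x => ?_, ?_⟩
  · exact congrArg Subtype.val hxy
  · let Ag := Localization.Away g
    haveI := (hloc g hg).1
    haveI := (hloc g hg).2
    haveI : IsNoetherianRing Ag := IsLocalization.isNoetherianRing (Submonoid.powers g) Ag inferInstance
    haveI : Module.FinitePresentation Ag (Ag ⊗[A] R) := Module.finitePresentation_of_finite Ag _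
    haveI : Module.Projective Ag (Ag ⊗[A] R) := Module.Flat.projective_of_finitePresentation
    haveI : Module.FinitePresentation A C := Module.finitePresentation_of_finite A C
    let ℓ : C →ₗ[A] Ag ⊗[A] R := (TensorProduct.mk A Ag R 1) ∘ₗ C.val.toLinearMap
    haveI : IsLocalizedModule (Submonoid.powers g) ℓ := isLocalizedModule_lTensor_comp C (hiso g hg)
    obtain ⟨p, c, hc⟩ := Submodule.fg_iff_exists_fin_generating_family.1 (Module.Finite.fg_top : (⊤ : Submodule A C).FG)
    let β : (Fin p → Ag) →ₗ[Ag] Ag ⊗[A] R := Fintype.linearCombination Ag fun i => ℓ (c i)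
    obtain ⟨k, a, ha⟩ := LefAlgz.exists_split (R₀ := A) (R := Ag) (L := Ag ⊗[A] R) g (Algebra.linearMap A Ag)
      (Fintype.linearCombination A c) ℓ β (fun y => by
        obtain ⟨⟨x, ⟨_, l, rfl⟩⟩, hx⟩ := IsLocalizedModule.surj (Submonoid.powers g) ℓ y
        obtain ⟨w, hw⟩ := (Submodule.mem_span_range_iff_exists_fun A).1 (hc ▸ (Submodule.mem_top : x ∈ _))
        obtain ⟨u, hu⟩ := (IsLocalization.Away.algebraMap_isUnit (S := Ag) g).pow l
        refine ⟨fun i => ((u⁻¹ : Agˣ) : Ag) * algebraMap A Ag (w i), ?_⟩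
        simp only [β, Fintype.linearCombination_apply, mul_smul, algebraMap_smul, ← map_smul ℓ, ← Finset.smul_sum,
          ← map_sum]
        rw [hw, show ℓ x = g ^ l • y from hx.symm, ← algebraMap_smul Ag (g ^ l) y, map_pow, ← hu, smul_smul,
          Units.inv_mul, one_smul])
      (fun x => by
        simp only [β, Fintype.linearCombination_apply, Algebra.linearMap_apply, algebraMap_smul, map_sum, map_smul])
    exact ⟨p, k, a, _, ha⟩
  · have h1 : IsEmbedding fun x => (⟨t.base x, (Set.ext_iff.1 hrange _).1 ⟨x, rfl⟩⟩ : h ⁻¹' Y) :=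
      t.isOpenEmbedding.isEmbedding.codRestrict _ _
    exact IsEmbedding.subtypeVal.comp (hembY.comp h1)
  · rw [hcomp]
    show (sp A R).base (t.base x) = _
    rw [← Scheme.Hom.comp_apply, ht]
    rfl
  · ext Q
    constructor
    · rintro ⟨x, rfl⟩
      exact (Set.ext_iff.1 hrange _).1 ⟨x, rfl⟩
    · intro hQ
      obtain ⟨⟨P, hP⟩, hP'⟩ := hbij.2 ⟨Q, hQ⟩
      obtain ⟨x, rfl⟩ := (Set.ext_iff.1 hrange P).2 hP
      exact ⟨x, congrArg Subtype.val hP'⟩

end Groth.Agent.FEtNbhd
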