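import Groth.Agent.FEtNbhd.Descend
import Groth.Agent.FEtNbhd.Model
import Groth.Agent.LC.TopDim2
import Groth.Prelude.Def_FEt

/-!
# Clopen subsets of covers over the punctured hypersurface extend to a neighbourhood
-/

noncomputable section

set_option autoImplicit false
set_option linter.style.haveILetI false
set_option backward.isDefEq.respectTransparency false
set_option backward.isDefEq.respectTransparency.types false

universe u

open CategoryTheory CategoryTheory.Limits AlgebraicGeometry TopologicalSpace IsLocalRing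

namespace Groth.Agent.FEtNbhd

open Groth.Agent Groth.Agent.LefAlgz

variable {A : Type u} [CommRing A]

variable [IsNoetherianRing A] [IsLocalRing A] {f : A}

set_option maxHeartbeats 1600000 in
/-- A clopen subset of a cover over the punctured hypersurface extends to a neighbourhood. -/
theorem exists_clopen_lift (hf : f ∈ maximalIdeal A) [IsAdicComplete (Ideal.span {f}) A]
    {E : Type u} [CommRing E] [Algebra A E] [Module.Finite A E] (hreg : IsSMulRegular E f)
    (hsurj : ∀ p : PrimeSpectrum A, f ∉ p.asIdeal → ∃ P, PrimeSpectrum.comap (algebraMap A E) P = p)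
    (h1 : FinH (maximalIdeal A) 1 (ColimSec.Q f E 0))
    {U : (Spec (CommRingCat.of A)).Opens} (hU : U ≤ FEt.puncturedSpec A) {X : Scheme.{u}} (i : X ⟶ (U : Scheme.{u}))
    [IsClosedImmersion i]
    (hi : ∀ p : PrimeSpectrum A, p ∈ Set.range (i ≫ U.ι).base ↔ p ≠ closedPoint A ∧ f ∈ p.asIdeal)
    (Z : FEt.Cat (U : Scheme.{u})) {C₀ : Set ↥(pullback Z.hom i)} (hC₀ : IsClopen C₀) :
    ∃ (O : (U : Scheme.{u}).Opens) (G : Set Z.left), Set.range i.base ⊆ (O : Set (U : Scheme.{u})) ∧ IsOpen G ∧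
      G ⊆ Z.hom.base ⁻¹' (O : Set (U : Scheme.{u})) ∧ IsOpen (Z.hom.base ⁻¹' (O : Set (U : Scheme.{u})) \ G) ∧
      (pullback.fst Z.hom i).base ⁻¹' G = C₀ := by
  obtain ⟨C, _, _, _, -, hsplit, Φ, hΦ, hΦc, hΦr⟩ := exists_model U Z
  let j := pullback.fst Z.hom i
  haveI : IsClosedImmersion j := MorphismProperty.pullback_fst _ _ inferInstance
  have hj : Set.range j.base = Z.hom.base ⁻¹' Set.range i.base := Scheme.Pullback.range_fst _ _
  -- generators
  obtain ⟨r, h, hh⟩ := Submodule.fg_iff_exists_fin_generating_family.1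
    (IsNoetherian.noetherian (Ideal.span {g : A | ∀ p : PrimeSpectrum A, g ∉ p.asIdeal → p ∈ U.1}))
  have hgood : ∀ l, ∀ p : PrimeSpectrum A, h l ∉ p.asIdeal → p ∈ U.1 := fun l p hp => by
    have hl : h l ∈ Ideal.span {g : A | ∀ p : PrimeSpectrum A, g ∉ p.asIdeal → p ∈ U.1} :=
      hh ▸ Submodule.subset_span ⟨l, rfl⟩
    by_contra hpU
    exact hp ((Ideal.span_le.2 (fun g (hg : ∀ q : PrimeSpectrum A, g ∉ q.asIdeal → q ∈ U.1) =>
      not_not.1 fun hgp => hpU (hg p hgp))) hl)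
  let g : Fin (r + 1) → A := Fin.cons f h
  let I : Ideal A := Ideal.span (Set.range g)
  have hIle : I ≤ maximalIdeal A := by
    refine Ideal.span_le.2 ?_
    rintro _ ⟨l, rfl⟩
    induction l using Fin.cases with
    | zero => exact hf
    | succ l =>
      by_contra hl
      exact hU (hgood l (closedPoint A) hl) rfl
  have hI : ∀ p : PrimeSpectrum A, f ∈ p.asIdeal → (¬ I ≤ p.asIdeal ↔ p ≠ closedPoint A) := fun p hfp => by
    constructor
    · intro hp e
      subst e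
      exact hp hIle
    · intro hp hle
      obtain ⟨x, hx⟩ := (hi p).2 ⟨hp, hfp⟩
      have hpU : p ∈ U.1 := by
        rw [← hx, Scheme.Hom.comp_apply]
        exact (i.base x).2
      obtain ⟨_, ⟨a, rfl⟩, hap, hle'⟩ :=
        PrimeSpectrum.isTopologicalBasis_basic_opens.exists_subset_of_mem_open hpU U.2
      refine hap ?_
      have hmem : a ∈ Ideal.span {g : A | ∀ p : PrimeSpectrum A, g ∉ p.asIdeal → p ∈ U.1} :=
        Ideal.subset_span fun q hq => hle' hq
      rw [← hh] at hmem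
      refine hle (Ideal.span_mono ?_ hmem)
      rintro _ ⟨l, rfl⟩
      exact ⟨l.succ, by simp [g]⟩
  have hrad : (maximalIdeal A).radical = I.radical := by
    rw [Ideal.IsPrime.radical inferInstance, Ideal.radical_eq_sInf]
    refine le_antisymm (le_sInf ?_) (sInf_le ⟨hIle, inferInstance⟩)
    rintro J ⟨hIJ, hJ⟩
    by_contra hne
    exact (hI ⟨J, hJ⟩ (hIJ (Ideal.subset_span ⟨0, by simp [g]⟩))).2 (fun e => hne (by
      rw [show J = maximalIdeal A from congrArg PrimeSpectrum.asIdeal e])) hIJ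
  have hfin : FinH I 1 (ColimSec.Q f E 0) :=
    LC.finite_H_of_radical_eq hrad 1 (ModuleCat.of A (ColimSec.Q f E 0)) h1
  have hsplit' : ∀ l, g l = f ∨ ∃ (p k : ℕ) (a : C →ₗ[A] (Fin p → A)) (b : (Fin p → A) →ₗ[A] C),
      ∀ x, b (a x) = g l ^ k • x := fun l => by
    induction l using Fin.cases with
    | zero => exact Or.inl (by simp [g])
    | succ l =>
      simp only [g, Fin.cons_succ]
      exact Or.inr (hsplit (h l) (hgood l))
  -- the decomposition
  let F₁ : Set (PrimeSpectrum C) := closure (Φ '' (j.base '' C₀))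
  let F₂ : Set (PrimeSpectrum C) := closure (Φ '' (j.base '' C₀ᶜ))
  have hcl : ∀ {T : Set ↥(pullback Z.hom i)}, IsClosed T → ∀ z : Z.left, Φ z ∈ closure (Φ '' (j.base '' T)) ↔
      z ∈ j.base '' T := fun {T} hT z => by
    rw [← Set.mem_preimage, ← hΦ.closure_eq_preimage_closure_image, (j.isClosedEmbedding.isClosedMap _ hT).closure_eq]
  have hpt : ∀ Q : PrimeSpectrum C, algebraMap A C f ∈ Q.asIdeal → ¬ I ≤ Q.asIdeal.comap (algebraMap A C) →
      ∃ x, Φ (j.base x) = Q := fun Q hfQ hIQ => by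
    let p := PrimeSpectrum.comap (algebraMap A C) Q
    obtain ⟨x, hx⟩ := (hi p).2 ⟨(hI p hfQ).1 hIQ, hfQ⟩
    obtain ⟨z, rfl⟩ : Q ∈ Set.range Φ := by
      rw [hΦr, Set.mem_preimage]
      show p ∈ U.1
      rw [← hx, Scheme.Hom.comp_apply]
      exact (i.base x).2
    have hz : z ∈ Set.range j.base := by
      rw [hj]
      refine ⟨x, U.ι.isOpenEmbedding.injective ?_⟩
      rw [← Scheme.Hom.comp_apply, hx]
      exact hΦc z
    obtain ⟨y, rfl⟩ := hz
    exact ⟨y, rfl⟩
  have hjinj := j.isClosedEmbedding.injective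
  have hF : ∀ Q : PrimeSpectrum C, algebraMap A C f ∈ Q.asIdeal → ¬ I ≤ Q.asIdeal.comap (algebraMap A C) →
      (Q ∈ F₁ ↔ Q ∉ F₂) := fun Q hfQ hIQ => by
    obtain ⟨y, rfl⟩ := hpt Q hfQ hIQ
    rw [hcl hC₀.1, hcl hC₀.compl.1, hjinj.mem_set_image, hjinj.mem_set_image]
    exact (not_not).symm
  obtain ⟨W, G, G', hG, hG', hW, hGG', hGF⟩ :=
    exists_clopen_nbhd_descend I hreg hsurj g rfl hfin hsplit' isClosed_closure isClosed_closure hF
  let O : (U : Scheme.{u}).Opens := ⟨U.ι.base ⁻¹' (W : Set (PrimeSpectrum A)), W.2.preimage U.ι.continuous⟩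
  have hO : ∀ z : Z.left, z ∈ Z.hom.base ⁻¹' (O : Set (U : Scheme.{u})) ↔
      PrimeSpectrum.comap (algebraMap A C) (Φ z) ∈ W := fun z => by rw [hΦc]; rfl
  have hx : ∀ x : X, (i ≫ U.ι).base x ≠ closedPoint A ∧ f ∈ ((i ≫ U.ι).base x : PrimeSpectrum A).asIdeal :=
    fun x => (hi _).1 ⟨x, rfl⟩
  refine ⟨O, Z.hom.base ⁻¹' (O : Set (U : Scheme.{u})) ∩ Φ ⁻¹' G, ?_, ?_, Set.inter_subset_left, ?_, ?_⟩
  · rintro _ ⟨x, rfl⟩
    show U.ι.base (i.base x) ∈ W
    have := hW _ ((hI _ (hx x).2).2 (hx x).1) (hx x).2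
    rwa [Scheme.Hom.comp_apply] at this
  · exact (O.2.preimage Z.hom.continuous).inter (hG.preimage hΦ.continuous)
  · rw [show Z.hom.base ⁻¹' (O : Set (U : Scheme.{u})) \ (Z.hom.base ⁻¹' (O : Set (U : Scheme.{u})) ∩ Φ ⁻¹' G) =
      Z.hom.base ⁻¹' (O : Set (U : Scheme.{u})) ∩ Φ ⁻¹' G' from Set.ext fun z =>
        ⟨fun hz => ⟨hz.1, not_not.1 fun h => hz.2 ⟨hz.1, (hGG' _ ((hO z).1 hz.1)).2 h⟩⟩,
          fun hz => ⟨hz.1, fun h => (hGG' _ ((hO z).1 hz.1)).1 h.2 hz.2⟩⟩]
    exact (O.2.preimage Z.hom.continuous).inter (hG'.preimage hΦ.continuous)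
  · ext y
    have hy : j.base y ∈ Set.range j.base := ⟨y, rfl⟩
    rw [hj] at hy
    obtain ⟨x, hxy⟩ := hy
    have hc : PrimeSpectrum.comap (algebraMap A C) (Φ (j.base y)) = (i ≫ U.ι).base x := by
      rw [hΦc, Scheme.Hom.comp_apply, hxy]
    have hfQ : algebraMap A C f ∈ (Φ (j.base y)).asIdeal := by
      show f ∈ (PrimeSpectrum.comap (algebraMap A C) (Φ (j.base y))).asIdeal
      rw [hc]
      exact (hx x).2
    have hIQ : ¬ I ≤ (Φ (j.base y)).asIdeal.comap (algebraMap A C) := by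
      show ¬ I ≤ (PrimeSpectrum.comap (algebraMap A C) (Φ (j.base y))).asIdeal
      rw [hc]
      exact (hI _ (hx x).2).2 (hx x).1
    have hmem : j.base y ∈ Z.hom.base ⁻¹' (O : Set (U : Scheme.{u})) := by
      rw [hO, hc]
      exact hW _ ((hI _ (hx x).2).2 (hx x).1) (hx x).2
    refine (and_iff_right hmem).trans ((hGF _ hfQ hIQ).trans ?_)
    rw [hcl hC₀.1, hjinj.mem_set_image]

end Groth.Agent.FEtNbhd
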