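import Groth.Agent.FEtNbhd.Morph
import Groth.Agent.FEtNbhd.Lift

/-!
# Restriction to the punctured hypersurface from its neighbourhoods is fully faithful
-/

noncomputable section

set_option autoImplicit false
set_option linter.style.haveILetI false
set_option backward.isDefEq.respectTransparency false
set_option backward.isDefEq.respectTransparency.types false

universe u

open CategoryTheory CategoryTheory.Limits AlgebraicGeometry TopologicalSpace IsLocalRing

attribute [-instance] CategoryTheory.catToReflQuiver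

namespace Groth.Agent.FEtNbhd

open Groth.Agent

theorem range_punctured {A : Type u} [CommRing A] [IsLocalRing A] (f : A) (p : PrimeSpectrum A) :
    p ∈ Set.range (pullback.fst (FEt.puncturedSpec A).ι
      (Spec.map (CommRingCat.ofHom (Ideal.Quotient.mk (Ideal.span {f})))) ≫ (FEt.puncturedSpec A).ι).base ↔
      p ≠ closedPoint A ∧ f ∈ p.asIdeal := by
  have hV : Set.range (Spec.map (CommRingCat.ofHom (Ideal.Quotient.mk (Ideal.span {f})))).base =
      PrimeSpectrum.zeroLocus {f} := by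
    rw [show Set.range (Spec.map (CommRingCat.ofHom (Ideal.Quotient.mk (Ideal.span {f})))).base =
      Set.range (PrimeSpectrum.comap (Ideal.Quotient.mk (Ideal.span {f}))) from rfl,
      _root_.range_comap_of_surjective _ _ Ideal.Quotient.mk_surjective, Ideal.mk_ker, PrimeSpectrum.zeroLocus_span]
  rw [Scheme.Hom.comp_base, TopCat.coe_comp, Set.range_comp, Scheme.Pullback.range_fst, Set.image_preimage_eq_range_inter,
    Scheme.Opens.range_ι, hV, Set.mem_inter_iff]
  exact and_congr Iff.rfl (by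
    rw [PrimeSpectrum.mem_zeroLocus, Set.singleton_subset_iff]
    rfl)

variable {X S : Scheme.{u}}

theorem restrict_map_fst (g : X ⟶ S) {V W : FEt.Cat S} (φ : V ⟶ W) :
    ((FEt.restrict g).map φ).left ≫ pullback.fst W.hom g = pullback.fst V.hom g ≫ φ.left := by
  simp [FEt.restrict]

theorem restrict_map_snd (g : X ⟶ S) {V W : FEt.Cat S} (φ : V ⟶ W) :
    ((FEt.restrict g).map φ).left ≫ pullback.snd W.hom g = pullback.snd V.hom g := by
  simp [FEt.restrict]

theorem comp_inv_fst {Y : Scheme.{u}} (u'' : X ⟶ Y) (k : Y ⟶ S) (u' : X ⟶ S) (hu : u' = u'' ≫ k) (V : FEt.Cat S) :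
    ((MorphismProperty.Over.pullbackComp (P := FEt.prop) (Q := ⊤) u'' k u' hu).inv.app V).left ≫ pullback.fst V.hom u' =
      pullback.fst (pullback.snd V.hom k) u'' ≫ pullback.fst V.hom k := by
  subst hu
  simp [MorphismProperty.Over.pullbackComp]

theorem comp_hom_fst {Y : Scheme.{u}} (u'' : X ⟶ Y) (k : Y ⟶ S) (u' : X ⟶ S) (hu : u' = u'' ≫ k) (V : FEt.Cat S) :
    ((MorphismProperty.Over.pullbackComp (P := FEt.prop) (Q := ⊤) u'' k u' hu).hom.app V).left ≫
      pullback.fst (pullback.snd V.hom k) u'' ≫ pullback.fst V.hom k = pullback.fst V.hom u' := by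
  subst hu
  simp [MorphismProperty.Over.pullbackComp]
  exact Category.id_comp _

variable {A : Type u} [CommRing A]

/-- An open of an open, as an open of the ambient spectrum, with a factorisation. -/
theorem exists_opens (U : (Spec (CommRingCat.of A)).Opens) (i : X ⟶ (U : Scheme.{u})) (O : (U : Scheme.{u}).Opens)
    (hO : Set.range i.base ⊆ (O : Set (U : Scheme.{u}))) :
    ∃ (U'' : (Spec (CommRingCat.of A)).Opens) (h : U'' ≤ U) (u'' : X ⟶ (U'' : Scheme.{u})),
      u'' ≫ (Spec (CommRingCat.of A)).homOfLE h = i ∧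
      ∀ y : (U'' : Scheme.{u}), ((Spec (CommRingCat.of A)).homOfLE h).base y ∈ (O : Set (U : Scheme.{u})) := by
  have h : U.ι ''ᵁ O ≤ U := by
    rintro _ ⟨x, -, rfl⟩
    exact x.2
  let k := (Spec (CommRingCat.of A)).homOfLE h
  have hk : k ≫ U.ι = (U.ι ''ᵁ O).ι := Scheme.homOfLE_ι _ _
  have hr : Set.range (i ≫ U.ι).base ⊆ Set.range (U.ι ''ᵁ O).ι.base := by
    rw [Scheme.Opens.range_ι]
    rintro _ ⟨x, rfl⟩
    exact ⟨i.base x, hO ⟨x, rfl⟩, (Scheme.Hom.comp_apply _ _ _).symm⟩
  refine ⟨_, h, IsOpenImmersion.lift (U.ι ''ᵁ O).ι (i ≫ U.ι) hr, ?_, fun y => ?_⟩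
  · rw [← cancel_mono U.ι, Category.assoc, hk, IsOpenImmersion.lift_fac]
  · obtain ⟨x, hx, hxy⟩ := y.2
    have e : k.base y = x := U.ι.isOpenEmbedding.injective (by
      rw [← Scheme.Hom.comp_apply, hk]
      exact hxy.symm)
    show k.base y ∈ (O : Set (U : Scheme.{u}))
    rw [e]
    exact hx

set_option maxHeartbeats 1600000 in
/-- Restriction from the neighbourhoods of the punctured hypersurface is fully faithful, given a good algebra. -/
theorem restrict_nhds_fullyFaithful_of_algebra [IsNoetherianRing A] [IsLocalRing A] (f : A) (hf : f ∈ maximalIdeal A)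
    [IsAdicComplete (Ideal.span {f}) A] {E : Type u} [CommRing E] [Algebra A E] [Module.Finite A E]
    (hreg : IsSMulRegular E f)
    (hsurj : ∀ p : PrimeSpectrum A, f ∉ p.asIdeal → ∃ P, PrimeSpectrum.comap (algebraMap A E) P = p)
    (h1 : LefAlgz.FinH (maximalIdeal A) 1 (LefAlgz.ColimSec.Q f E 0)) :
    ∀ (U' : (Spec (CommRingCat.of A)).Opens) (_ : U' ≤ (FEt.puncturedSpec A)) (u' : pullback (FEt.puncturedSpec A).ι (Spec.map (CommRingCat.ofHom (Ideal.Quotient.mk (Ideal.span {f})))) ⟶ (U' : Scheme.{u}))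
      (_ : u' ≫ U'.ι = (pullback.fst (FEt.puncturedSpec A).ι (Spec.map (CommRingCat.ofHom (Ideal.Quotient.mk (Ideal.span {f})))) ≫ (FEt.puncturedSpec A).ι)) (V' W' : FEt.Cat (U' : Scheme.{u})),
      (∀ φ₀ : (FEt.restrict u').obj V' ⟶ (FEt.restrict u').obj W',
        ∃ (U'' : (Spec (CommRingCat.of A)).Opens) (h : U'' ≤ U') (u'' : pullback (FEt.puncturedSpec A).ι (Spec.map (CommRingCat.ofHom (Ideal.Quotient.mk (Ideal.span {f})))) ⟶ (U'' : Scheme.{u}))
          (hu : u'' ≫ (Spec (CommRingCat.of A)).homOfLE h = u')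
          (φ : (FEt.restrict ((Spec (CommRingCat.of A)).homOfLE h)).obj V' ⟶ (FEt.restrict ((Spec (CommRingCat.of A)).homOfLE h)).obj W'),
          (FEt.restrict u'').map φ =
            (MorphismProperty.Over.pullbackComp u'' ((Spec (CommRingCat.of A)).homOfLE h) u' hu.symm).inv.app V' ≫ φ₀ ≫
              (MorphismProperty.Over.pullbackComp u'' ((Spec (CommRingCat.of A)).homOfLE h) u' hu.symm).hom.app W') ∧
      (∀ φ ψ : V' ⟶ W', (FEt.restrict u').map φ = (FEt.restrict u').map ψ →
        ∃ (U'' : (Spec (CommRingCat.of A)).Opens) (h : U'' ≤ U') (u'' : pullback (FEt.puncturedSpec A).ι (Spec.map (CommRingCat.ofHom (Ideal.Quotient.mk (Ideal.span {f})))) ⟶ (U'' : Scheme.{u})),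
          u'' ≫ (Spec (CommRingCat.of A)).homOfLE h = u' ∧
          (FEt.restrict ((Spec (CommRingCat.of A)).homOfLE h)).map φ = (FEt.restrict ((Spec (CommRingCat.of A)).homOfLE h)).map ψ) := by
  intro U' hU' u' hu' V' W'
  haveI : IsClosedImmersion (Spec.map (CommRingCat.ofHom (Ideal.Quotient.mk (Ideal.span {f})))) :=
    IsClosedImmersion.spec_of_surjective _ Ideal.Quotient.mk_surjective
  haveI : IsClosedImmersion u' := by
    have e : u' ≫ (Spec (CommRingCat.of A)).homOfLE hU' = pullback.fst (FEt.puncturedSpec A).ι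
        (Spec.map (CommRingCat.ofHom (Ideal.Quotient.mk (Ideal.span {f})))) := by
      rw [← cancel_mono (FEt.puncturedSpec A).ι, Category.assoc, Scheme.homOfLE_ι, hu']
    haveI : IsClosedImmersion (u' ≫ (Spec (CommRingCat.of A)).homOfLE hU') := by
      rw [e]
      exact MorphismProperty.pullback_fst _ _ inferInstance
    exact IsClosedImmersion.of_comp u' ((Spec (CommRingCat.of A)).homOfLE hU')
  have hi : ∀ p : PrimeSpectrum A, p ∈ Set.range (u' ≫ U'.ι).base ↔ p ≠ closedPoint A ∧ f ∈ p.asIdeal := fun p => by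
    rw [hu']
    exact range_punctured f p
  refine ⟨fun φ₀ => ?_, fun φ ψ hφψ => ?_⟩
  · obtain ⟨O, θ, hO, hθ, hθ₀⟩ :=
      exists_open_hom u' (fun Z C hC => exists_clopen_lift hf hreg hsurj h1 hU' u' hi Z hC) φ₀
    obtain ⟨U'', h, u'', hu, hmem⟩ := exists_opens U' u' O hO
    let k := (Spec (CommRingCat.of A)).homOfLE h
    have hr : Set.range (pullback.fst V'.hom k).base ⊆ Set.range (V'.hom ⁻¹ᵁ O).ι.base := by
      rw [Scheme.Opens.range_ι, Scheme.Pullback.range_fst]
      rintro v ⟨y, hy⟩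
      show V'.hom.base v ∈ (O : Set (U' : Scheme.{u}))
      rw [← hy]
      exact hmem y
    let b := IsOpenImmersion.lift (V'.hom ⁻¹ᵁ O).ι (pullback.fst V'.hom k) hr
    have hb : b ≫ (V'.hom ⁻¹ᵁ O).ι = pullback.fst V'.hom k := IsOpenImmersion.lift_fac _ _ _
    let φ : (FEt.restrict k).obj V' ⟶ (FEt.restrict k).obj W' := MorphismProperty.Over.homMk
      (pullback.lift (b ≫ θ) (pullback.snd V'.hom k) (by rw [Category.assoc, hθ, reassoc_of% hb, pullback.condition]))
      (pullback.lift_snd _ _ _)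
    refine ⟨U'', h, u'', hu, φ, MorphismProperty.Over.Hom.ext ?_⟩
    let V₂ := (FEt.restrict k).obj V'
    let W₂ := (FEt.restrict k).obj W'
    let ci := ((MorphismProperty.Over.pullbackComp (P := FEt.prop) (Q := ⊤) u'' k u' hu.symm).inv.app V').left
    let co := ((MorphismProperty.Over.pullbackComp (P := FEt.prop) (Q := ⊤) u'' k u' hu.symm).hom.app W').left
    show ((FEt.restrict u'').map φ).left = ci ≫ φ₀.left ≫ co
    have hsnd : (ci ≫ φ₀.left ≫ co) ≫ pullback.snd W₂.hom u'' = pullback.snd V₂.hom u'' :=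
      MorphismProperty.Over.w ((MorphismProperty.Over.pullbackComp (P := FEt.prop) (Q := ⊤) u'' k u' hu.symm).inv.app V' ≫
        φ₀ ≫ (MorphismProperty.Over.pullbackComp (P := FEt.prop) (Q := ⊤) u'' k u' hu.symm).hom.app W')
    refine pullback.hom_ext ?_ ((restrict_map_snd u'' φ).trans hsnd.symm)
    refine (restrict_map_fst u'' φ).trans ?_
    refine pullback.hom_ext ?_ ?_
    · have h2 := hθ₀ ci (pullback.fst V₂.hom u'' ≫ b) (by
        rw [Category.assoc, hb]
        exact (comp_inv_fst u'' k u' hu.symm V').symm)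
      have h3 := comp_hom_fst u'' k u' hu.symm W'
      calc (pullback.fst V₂.hom u'' ≫ φ.left) ≫ pullback.fst W'.hom k
            = (pullback.fst V₂.hom u'' ≫ b) ≫ θ := by
              simp [φ, V₂]
        _ = ci ≫ φ₀.left ≫ pullback.fst W'.hom u' := h2
        _ = ci ≫ φ₀.left ≫ co ≫ pullback.fst W₂.hom u'' ≫ pullback.fst W'.hom k :=
              congrArg (fun t => ci ≫ φ₀.left ≫ t) h3.symm
        _ = ((ci ≫ φ₀.left ≫ co) ≫ pullback.fst W₂.hom u'') ≫ pullback.fst W'.hom k := by
              simp only [Category.assoc]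
    · calc (pullback.fst V₂.hom u'' ≫ φ.left) ≫ pullback.snd W'.hom k
            = pullback.fst V₂.hom u'' ≫ V₂.hom :=
              (Category.assoc _ _ _).trans (congrArg _ (pullback.lift_snd _ _ _))
        _ = pullback.snd V₂.hom u'' ≫ u'' := pullback.condition
        _ = ((ci ≫ φ₀.left ≫ co) ≫ pullback.snd W₂.hom u'') ≫ u'' := congrArg (· ≫ u'') hsnd.symm
        _ = (ci ≫ φ₀.left ≫ co) ≫ pullback.fst W₂.hom u'' ≫ W₂.hom :=
              (Category.assoc _ _ _).trans (congrArg _ pullback.condition.symm)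
        _ = ((ci ≫ φ₀.left ≫ co) ≫ pullback.fst W₂.hom u'') ≫ pullback.snd W'.hom k := (Category.assoc _ _ _).symm
  · obtain ⟨O, hO, heq⟩ := exists_open_eq u' φ ψ hφψ
    obtain ⟨U'', h, u'', hu, hmem⟩ := exists_opens U' u' O hO
    let k := (Spec (CommRingCat.of A)).homOfLE h
    refine ⟨U'', h, u'', hu, MorphismProperty.Over.Hom.ext (pullback.hom_ext ?_ ?_)⟩
    · refine (restrict_map_fst k φ).trans ((heq (pullback.fst V'.hom k) fun t => ?_).trans (restrict_map_fst k ψ).symm)
      have e : V'.hom.base ((pullback.fst V'.hom k).base t) = k.base ((pullback.snd V'.hom k).base t) :=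
        (Scheme.Hom.comp_apply _ _ t).symm.trans
          ((congrArg (fun a => a.base t) (pullback.condition (f := V'.hom) (g := k))).trans (Scheme.Hom.comp_apply _ _ t))
      exact (congrArg (· ∈ (O : Set (U' : Scheme.{u}))) e).mpr (hmem _)
    · exact (restrict_map_snd k φ).trans (restrict_map_snd k ψ).symm

/-- Restriction from the neighbourhoods of the punctured hypersurface is fully faithful. -/
theorem restrict_nhds_fullyFaithful [IsNoetherianRing A] [IsLocalRing A] (f : A) (hf : f ∈ maximalIdeal A)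
    [IsAdicComplete (Ideal.span {f}) A] (hnz : f ∈ nonZeroDivisors A)
    (h1 : Module.Finite A (LocCoh.H (maximalIdeal A) 1 (A ⧸ Ideal.span {f}))) :
    ∀ (U' : (Spec (CommRingCat.of A)).Opens) (_ : U' ≤ (FEt.puncturedSpec A)) (u' : pullback (FEt.puncturedSpec A).ι (Spec.map (CommRingCat.ofHom (Ideal.Quotient.mk (Ideal.span {f})))) ⟶ (U' : Scheme.{u}))
      (_ : u' ≫ U'.ι = (pullback.fst (FEt.puncturedSpec A).ι (Spec.map (CommRingCat.ofHom (Ideal.Quotient.mk (Ideal.span {f})))) ≫ (FEt.puncturedSpec A).ι)) (V' W' : FEt.Cat (U' : Scheme.{u})),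
      (∀ φ₀ : (FEt.restrict u').obj V' ⟶ (FEt.restrict u').obj W',
        ∃ (U'' : (Spec (CommRingCat.of A)).Opens) (h : U'' ≤ U') (u'' : pullback (FEt.puncturedSpec A).ι (Spec.map (CommRingCat.ofHom (Ideal.Quotient.mk (Ideal.span {f})))) ⟶ (U'' : Scheme.{u}))
          (hu : u'' ≫ (Spec (CommRingCat.of A)).homOfLE h = u')
          (φ : (FEt.restrict ((Spec (CommRingCat.of A)).homOfLE h)).obj V' ⟶ (FEt.restrict ((Spec (CommRingCat.of A)).homOfLE h)).obj W'),
          (FEt.restrict u'').map φ =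
            (MorphismProperty.Over.pullbackComp u'' ((Spec (CommRingCat.of A)).homOfLE h) u' hu.symm).inv.app V' ≫ φ₀ ≫
              (MorphismProperty.Over.pullbackComp u'' ((Spec (CommRingCat.of A)).homOfLE h) u' hu.symm).hom.app W') ∧
      (∀ φ ψ : V' ⟶ W', (FEt.restrict u').map φ = (FEt.restrict u').map ψ →
        ∃ (U'' : (Spec (CommRingCat.of A)).Opens) (h : U'' ≤ U') (u'' : pullback (FEt.puncturedSpec A).ι (Spec.map (CommRingCat.ofHom (Ideal.Quotient.mk (Ideal.span {f})))) ⟶ (U'' : Scheme.{u})),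
          u'' ≫ (Spec (CommRingCat.of A)).homOfLE h = u' ∧
          (FEt.restrict ((Spec (CommRingCat.of A)).homOfLE h)).map φ = (FEt.restrict ((Spec (CommRingCat.of A)).homOfLE h)).map ψ) := by
  refine restrict_nhds_fullyFaithful_of_algebra f hf (E := A) (fun x y h => ?_) (fun p _ => ⟨p, rfl⟩) ?_
  · exact (mul_cancel_left_mem_nonZeroDivisors hnz).1 h
  · let e : (A ⧸ Ideal.span {f}) ≃ₗ[A] LefAlgz.ColimSec.Q f A 0 :=
      Submodule.quotEquivOfEq _ _ (by rw [Nat.zero_add, pow_one, smul_eq_mul, Ideal.mul_top])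
    haveI := h1
    exact Module.Finite.equiv ((localCohomology (maximalIdeal A) 1).mapIso e.toModuleIso).toLinearEquiv

end Groth.Agent.FEtNbhd
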