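import Groth.Agent.Pi1X.FEtFull
import Mathlib.AlgebraicGeometry.Morphisms.FlatRank

/-!
# Morphisms of covers near a closed subscheme from clopen subsets near it
-/

noncomputable section

set_option autoImplicit false
set_option linter.style.haveILetI false
set_option backward.isDefEq.respectTransparency false
set_option backward.isDefEq.respectTransparency.types false

universe u

open CategoryTheory CategoryTheory.Limits AlgebraicGeometry TopologicalSpace

namespace Groth.Agent.FEtNbhd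

open Groth.Agent

variable {X S : Scheme.{u}}

/-- The open complement of the image of a closed set. -/
theorem exists_open_avoid {V : Scheme.{u}} (g : V ⟶ S) [IsFinite g] (i : X ⟶ S) {T : Set V} (hT : IsClosed T)
    (h : ∀ v ∈ T, g.base v ∉ Set.range i.base) :
    ∃ O : S.Opens, Set.range i.base ⊆ (O : Set S) ∧ ∀ v, g.base v ∈ (O : Set S) → v ∉ T :=
  ⟨⟨(g.base '' T)ᶜ, (g.isClosedMap _ hT).isOpen_compl⟩,
    fun s hs ⟨v, hv, hvs⟩ => h v hv (hvs ▸ hs), fun v hv hvT => hv ⟨v, hvT, rfl⟩⟩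

/-- Morphisms agreeing on the closed subscheme agree near it. -/
theorem exists_open_eq (i : X ⟶ S) {V W : FEt.Cat S} (φ ψ : V ⟶ W)
    (h : (FEt.restrict i).map φ = (FEt.restrict i).map ψ) :
    ∃ O : S.Opens, Set.range i.base ⊆ (O : Set S) ∧
      ∀ {T : Scheme.{u}} (a : T ⟶ V.left), (∀ t, V.hom.base (a.base t) ∈ (O : Set S)) → a ≫ φ.left = a ≫ ψ.left := by
  have he : pullback.fst V.hom i ≫ φ.left = pullback.fst V.hom i ≫ ψ.left := by
    have h1 := congrArg (fun t => t.left ≫ pullback.fst W.hom i) h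
    simp [FEt.restrict] at h1
    exact h1
  haveI : IsFinite V.hom := V.prop.1
  haveI : IsFinite W.hom := W.prop.1
  haveI : Etale W.hom := W.prop.2
  let X' : Over S := Over.mk V.hom
  let Y' : Over S := Over.mk W.hom
  let f' : X' ⟶ Y' := Over.homMk φ.left (MorphismProperty.Over.w φ)
  let g' : X' ⟶ Y' := Over.homMk ψ.left (MorphismProperty.Over.w ψ)
  haveI : IsSeparated Y'.hom := inferInstanceAs (IsSeparated W.hom)
  haveI : FormallyUnramified Y'.hom := inferInstanceAs (FormallyUnramified W.hom)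
  haveI : LocallyOfFiniteType Y'.hom := inferInstanceAs (LocallyOfFiniteType W.hom)
  haveI := Pi1X.isOpenImmersion_equalizer_ι_left f' g'
  have hsub : Set.range (pullback.fst V.hom i).base ⊆ Set.range (equalizer.ι f' g').left.base := by
    let T' : Over S := Over.mk (pullback.fst V.hom i ≫ V.hom)
    let z' : T' ⟶ X' := Over.homMk (pullback.fst V.hom i)
    have hz' : z' ≫ f' = z' ≫ g' := by ext1; exact he
    rintro _ ⟨t, rfl⟩
    refine ⟨(equalizer.lift z' hz').left t, ?_⟩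
    rw [← Scheme.Hom.comp_apply, ← Over.comp_left, equalizer.lift_ι]
    rfl
  obtain ⟨O, hO, hO'⟩ := exists_open_avoid V.hom i (T := (Set.range (equalizer.ι f' g').left.base)ᶜ)
    (Scheme.Hom.isOpenEmbedding (equalizer.ι f' g').left).isOpen_range.isClosed_compl fun v hv hvi => hv (hsub (by
      rw [Scheme.Pullback.range_fst]
      exact hvi))
  refine ⟨O, hO, fun {T} a ha => ?_⟩
  have hr : Set.range a.base ⊆ Set.range (equalizer.ι f' g').left.base := by
    rintro _ ⟨t, rfl⟩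
    exact not_not.1 (hO' _ (ha t))
  rw [← IsOpenImmersion.lift_fac _ a hr, Category.assoc, Category.assoc]
  exact congrArg (_ ≫ ·) congr($(equalizer.condition f' g').left)

set_option maxHeartbeats 800000 in
/-- A morphism of restrictions extends near the closed subscheme if clopen subsets do. -/
theorem exists_open_hom (i : X ⟶ S)
    (hlift : ∀ (Z : FEt.Cat S) (C : Set ↥(pullback Z.hom i)), IsClopen C →
      ∃ (O : S.Opens) (G : Set Z.left), Set.range i.base ⊆ (O : Set S) ∧ IsOpen G ∧ G ⊆ Z.hom.base ⁻¹' (O : Set S) ∧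
        IsOpen (Z.hom.base ⁻¹' (O : Set S) \ G) ∧ (pullback.fst Z.hom i).base ⁻¹' G = C)
    {V W : FEt.Cat S} (φ₀ : (FEt.restrict i).obj V ⟶ (FEt.restrict i).obj W) :
    ∃ (O : S.Opens) (ψ : ((V.hom ⁻¹ᵁ O : V.left.Opens) : Scheme.{u}) ⟶ W.left),
      Set.range i.base ⊆ (O : Set S) ∧ ψ ≫ W.hom = (V.hom ⁻¹ᵁ O).ι ≫ V.hom ∧
      ∀ {T : Scheme.{u}} (a : T ⟶ pullback V.hom i) (b : T ⟶ (V.hom ⁻¹ᵁ O : V.left.Opens)),
        b ≫ (V.hom ⁻¹ᵁ O).ι = a ≫ pullback.fst V.hom i → b ≫ ψ = a ≫ φ₀.left ≫ pullback.fst W.hom i := by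
  let ψ₀ : pullback V.hom i ⟶ pullback W.hom i := φ₀.left
  have hψ₀ : ψ₀ ≫ pullback.snd W.hom i = pullback.snd V.hom i := MorphismProperty.Over.w φ₀
  let P : Scheme.{u} := pullback V.hom W.hom
  let Z : FEt.Cat S := MorphismProperty.Over.mk ⊤ (pullback.fst V.hom W.hom ≫ V.hom)
    (MorphismProperty.comp_mem _ _ _ (MorphismProperty.pullback_fst _ _ W.prop) V.prop)
  let σ : pullback V.hom i ⟶ pullback Z.hom i :=
    pullback.lift (pullback.lift (pullback.fst V.hom i) (ψ₀ ≫ pullback.fst W.hom i) (by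
      rw [Category.assoc, pullback.condition, pullback.condition, reassoc_of% hψ₀]))
      (pullback.snd V.hom i) (by
        show pullback.lift _ _ _ ≫ pullback.fst V.hom W.hom ≫ V.hom = _
        rw [pullback.lift_fst_assoc, pullback.condition])
  have hσ : FEt.prop σ := Pi1X.prop_of_comp σ (pullback.snd Z.hom i)
    (MorphismProperty.pullback_snd _ _ Z.prop) (by
      rw [pullback.lift_snd]
      exact MorphismProperty.pullback_snd _ _ V.prop)
  have hσ1 : σ ≫ pullback.fst Z.hom i ≫ pullback.fst V.hom W.hom = pullback.fst V.hom i := by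
    simp [σ, Z]
  have hσ1' : σ ≫ pullback.fst Z.hom i ≫ pullback.snd V.hom W.hom = ψ₀ ≫ pullback.fst W.hom i := by
    simp [σ, Z]
  have hσ2 : σ ≫ pullback.snd Z.hom i = pullback.snd V.hom i := by simp [σ]
  haveI : Mono σ := by
    refine ⟨fun a b hab => pullback.hom_ext ?_ ?_⟩
    · rw [← hσ1, reassoc_of% hab]
    · rw [← hσ2, reassoc_of% hab]
  haveI := hσ.2
  haveI : IsOpenImmersion σ := IsOpenImmersion.of_flat_of_mono σ
  obtain ⟨O, G, hO, hG, hGO, hGc, hGσ⟩ := hlift Z _ (Pi1X.isClopen_range hσ)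
  let pr : Z.left ⟶ V.left := pullback.fst V.hom W.hom
  haveI : IsFinite W.hom := W.prop.1
  haveI : Etale W.hom := W.prop.2
  have hprp : FEt.prop pr := MorphismProperty.pullback_fst _ _ W.prop
  haveI : IsFinite pr := hprp.1
  haveI : Etale pr := hprp.2
  let O₁ : V.left.Opens := V.hom ⁻¹ᵁ O
  let Gs : Z.left.Opens := ⟨G, hG⟩
  have hGle : Gs ≤ pr ⁻¹ᵁ O₁ := fun z hz => hGO hz
  let p : (Gs : Scheme.{u}) ⟶ (O₁ : Scheme.{u}) := Z.left.homOfLE hGle ≫ pr ∣_ O₁
  haveI : IsClosedImmersion (Z.left.homOfLE hGle) := by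
    refine IsClosedImmersion.of_isPreimmersion _ ?_
    rw [show Set.range (Z.left.homOfLE hGle).base = (pr ⁻¹ᵁ O₁).ι.base ⁻¹' G from by
      ext x
      constructor
      · rintro ⟨y, rfl⟩
        show (pr ⁻¹ᵁ O₁).ι.base ((Z.left.homOfLE hGle).base y) ∈ G
        rw [← Scheme.Hom.comp_apply, Scheme.homOfLE_ι]
        exact y.2
      · intro hx
        refine ⟨⟨x.1, hx⟩, (pr ⁻¹ᵁ O₁).ι.isOpenEmbedding.injective ?_⟩
        rw [← Scheme.Hom.comp_apply, Scheme.homOfLE_ι]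
        rfl, ← isOpen_compl_iff]
    have e : ((pr ⁻¹ᵁ O₁).ι.base ⁻¹' G)ᶜ = (pr ⁻¹ᵁ O₁).ι.base ⁻¹' (Z.hom.base ⁻¹' (O : Set S) \ G) := by
      ext x
      exact ⟨fun hx => ⟨x.2, hx⟩, fun hx => hx.2⟩
    rw [e]
    exact hGc.preimage (pr ⁻¹ᵁ O₁).ι.continuous
  haveI : IsFinite p := inferInstance
  haveI : Etale p := inferInstance
  have hpι : p ≫ O₁.ι = Gs.ι ≫ pr := by
    simp [p]
  -- the restriction to the closed subscheme has rank one
  have hrj : Set.range (pullback.fst V.hom i).base ⊆ Set.range O₁.ι.base := by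
    rw [Scheme.Pullback.range_fst, Scheme.Opens.range_ι]
    exact fun v hv => hO hv
  let j : pullback V.hom i ⟶ (O₁ : Scheme.{u}) := IsOpenImmersion.lift O₁.ι _ hrj
  have hj : j ≫ O₁.ι = pullback.fst V.hom i := IsOpenImmersion.lift_fac _ _ _
  have hrτ : Set.range (σ ≫ pullback.fst Z.hom i).base ⊆ Set.range Gs.ι.base := by
    rw [Scheme.Opens.range_ι]
    rintro _ ⟨y, rfl⟩
    rw [Scheme.Hom.comp_apply]
    exact (Set.ext_iff.1 hGσ (σ.base y)).2 ⟨y, rfl⟩
  let τ : pullback V.hom i ⟶ (Gs : Scheme.{u}) := IsOpenImmersion.lift Gs.ι _ hrτ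
  have hτ : τ ≫ Gs.ι = σ ≫ pullback.fst Z.hom i := IsOpenImmersion.lift_fac _ _ _
  have hτp : τ ≫ p = j := by
    rw [← cancel_mono O₁.ι, hj, Category.assoc, hpι, reassoc_of% hτ]
    exact hσ1
  have hfac : ∀ {T : Scheme.{u}} (a : T ⟶ (Gs : Scheme.{u})) (b : T ⟶ pullback V.hom i), a ≫ p = b ≫ j → b ≫ τ = a := by
    intro T a b hab
    have hw : (a ≫ Gs.ι) ≫ Z.hom = (b ≫ pullback.snd V.hom i) ≫ i := by
      have h1 := congrArg (fun t => t ≫ O₁.ι ≫ V.hom) hab
      simp only [Category.assoc, reassoc_of% hpι, reassoc_of% hj] at h1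
      rw [Category.assoc, Category.assoc, ← pullback.condition]
      exact h1
    let a' : T ⟶ pullback Z.hom i := pullback.lift (a ≫ Gs.ι) (b ≫ pullback.snd V.hom i) hw
    have ha' : a' ≫ pullback.fst Z.hom i = a ≫ Gs.ι := pullback.lift_fst _ _ _
    have hr : Set.range a'.base ⊆ Set.range σ.base := by
      rintro _ ⟨t, rfl⟩
      rw [← hGσ, Set.mem_preimage, ← Scheme.Hom.comp_apply, ha', Scheme.Hom.comp_apply]
      exact (a.base t).2
    have hc := IsOpenImmersion.lift_fac σ a' hr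
    have hcb : IsOpenImmersion.lift σ a' hr = b := by
      refine pullback.hom_ext ?_ ?_
      · rw [← hσ1, reassoc_of% hc, reassoc_of% ha', hσ1, ← hj, ← reassoc_of% hab, hpι]
      · rw [← hσ2, reassoc_of% hc, hσ2]
        exact pullback.lift_snd (a ≫ Gs.ι) (b ≫ pullback.snd V.hom i) hw
    rw [hcb] at hc
    rw [← cancel_mono Gs.ι, Category.assoc, hτ, ← ha', reassoc_of% hc]
  have hpb : IsPullback τ (𝟙 _) p j := by
    let e₁ : pullback V.hom i ≅ pullback p j :=
      { hom := pullback.lift τ (𝟙 _) (by rw [hτp, Category.id_comp])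
        inv := pullback.snd p j
        hom_inv_id := pullback.lift_snd _ _ _
        inv_hom_id := by
          refine pullback.hom_ext ?_ ?_
          · rw [Category.assoc, pullback.lift_fst, Category.id_comp]
            exact hfac _ _ pullback.condition
          · rw [Category.assoc, pullback.lift_snd, Category.comp_id, Category.id_comp] }
    exact IsPullback.of_iso_pullback ⟨by rw [hτp, Category.id_comp]⟩ e₁ (pullback.lift_fst _ _ _)
      (pullback.lift_snd _ _ _)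
  have hrank : ∀ y, p.finrank (j.base y) = 1 := fun y => by
    rw [← Scheme.Hom.finrank_of_isPullback _ _ _ _ hpb y, Scheme.Hom.finrank_eq_one_of_isIso]
    rfl
  let Bad : Set V.left := O₁.ι.base '' {y | p.finrank y = 1}
  have hBad : IsOpen Bad := O₁.ι.isOpenEmbedding.isOpenMap _ (p.isLocallyConstant_finrank {1})
  haveI : IsFinite V.hom := V.prop.1
  obtain ⟨O', hO', hO'T⟩ := exists_open_avoid V.hom i (T := Badᶜ) hBad.isClosed_compl fun v hv hvi => by
    obtain ⟨x, rfl⟩ : v ∈ Set.range (pullback.fst V.hom i).base := by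
      rw [Scheme.Pullback.range_fst]
      exact hvi
    exact hv ⟨j.base x, hrank x, (Scheme.Hom.comp_apply _ _ x).symm.trans (congrArg (fun t => t.base x) hj)⟩
  let O'' : S.Opens := O ⊓ O'
  let O₂ : O₁.toScheme.Opens := O₁.ι ⁻¹ᵁ (V.hom ⁻¹ᵁ O'')
  have hiso : IsIso (p ∣_ O₂) := by
    rw [Scheme.Hom.isIso_iff_finrank_eq]
    funext y
    have e := Scheme.Hom.finrank_of_isPullback _ _ _ _ (isPullback_morphismRestrict p O₂).flip y
    rw [Pi.one_apply, e]
    obtain ⟨z, hz, hzy⟩ := not_not.1 (hO'T (O₁.ι.base (O₂.ι.base y)) y.2.2)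
    rw [← O₁.ι.isOpenEmbedding.injective hzy]
    exact hz
  have hrb : Set.range ((V.hom ⁻¹ᵁ O'').ι).base ⊆ Set.range (O₂.ι ≫ O₁.ι).base := by
    rw [Scheme.Opens.range_ι]
    intro v hv
    exact ⟨⟨⟨v, hv.1⟩, hv⟩, rfl⟩
  let e := IsOpenImmersion.lift (O₂.ι ≫ O₁.ι) (V.hom ⁻¹ᵁ O'').ι hrb
  have he : e ≫ O₂.ι ≫ O₁.ι = (V.hom ⁻¹ᵁ O'').ι := IsOpenImmersion.lift_fac _ _ _
  obtain ⟨s, hs⟩ : ∃ s : ((V.hom ⁻¹ᵁ O'' : V.left.Opens) : Scheme.{u}) ⟶ (Gs : Scheme.{u}), s ≫ p = e ≫ O₂.ι :=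
    ⟨e ≫ inv (p ∣_ O₂) ≫ (p ⁻¹ᵁ O₂).ι, by
      simp only [Category.assoc, ← morphismRestrict_ι, IsIso.inv_hom_id_assoc]⟩
  have hs' : s ≫ Gs.ι ≫ pr = (V.hom ⁻¹ᵁ O'').ι := by
    rw [← hpι, reassoc_of% hs, he]
  refine ⟨O'', s ≫ Gs.ι ≫ pullback.snd V.hom W.hom, fun x hx => ⟨hO hx, hO' hx⟩, ?_, fun {T} a b hab => ?_⟩
  · have hc : pr ≫ V.hom = pullback.snd V.hom W.hom ≫ W.hom := pullback.condition
    calc (s ≫ Gs.ι ≫ pullback.snd V.hom W.hom) ≫ W.hom
          = s ≫ Gs.ι ≫ pullback.snd V.hom W.hom ≫ W.hom := (Category.assoc _ _ _).trans (congrArg (s ≫ ·) (Category.assoc _ _ _))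
      _ = (s ≫ Gs.ι ≫ pr) ≫ V.hom := by rw [← hc, Category.assoc, Category.assoc]
      _ = (V.hom ⁻¹ᵁ O'').ι ≫ V.hom := congrArg (· ≫ V.hom) hs'
  · have h1 : (b ≫ s) ≫ p = a ≫ j := by
      rw [Category.assoc b s p, hs, ← cancel_mono O₁.ι, Category.assoc, Category.assoc, he, Category.assoc, hj, hab]
    have h2 := hfac (b ≫ s) a h1
    calc b ≫ s ≫ Gs.ι ≫ pullback.snd V.hom W.hom
          = (b ≫ s) ≫ Gs.ι ≫ pullback.snd V.hom W.hom := (Category.assoc _ _ _).symm
      _ = a ≫ τ ≫ Gs.ι ≫ pullback.snd V.hom W.hom := by rw [← h2, Category.assoc]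
      _ = a ≫ ψ₀ ≫ pullback.fst W.hom i := by rw [reassoc_of% hτ, hσ1']

end Groth.Agent.FEtNbhd
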